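import Groth.Agent.FlatG.Tower
import Groth.Agent.SeesawX.Closed
import Groth.Agent.S0002
import Groth.Prelude.Def_CurvBase

/-!
# High twists: generation of the global sections, and Euler characteristics
-/

set_option autoImplicit false
set_option linter.style.haveILetI false
set_option backward.isDefEq.respectTransparency false
set_option backward.isDefEq.respectTransparency.types false

universe u

open CategoryTheory AlgebraicGeometry TopologicalSpace Opposite
open Groth.Agent.PnCoh.Finite (mapLin)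

attribute [local instance] HasDerivedCategory.standard

noncomputable section

namespace Groth.Agent.FlatG

open Groth.Agent AmpleVan

attribute [local instance] Pol.secR

variable {X : Scheme.{u}} {r : ℕ} (P : Pol X r) (R : Type u) [CommRing R] [X.Over (Spec (CommRingCat.of R))]

/-- `H⁰` is the module of global sections. -/
def h0Equiv (M : X.Modules) : Coh.HH X M 0 ≃ₗ[R] Γ(M, ⊤) :=
  { SeesawX.HHzeroEquiv M with
    map_smul' := fun a x => by
      show SeesawX.HHzeroEquiv M (Sheaf.H.map (Coh.smulAb M (Coh.toGlobal (X ↘ Spec (CommRingCat.of R)) a)) 0 x) = _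
      refine (Sheaf.H.equiv₀_naturality Limits.isTerminalTop
        (Coh.smulAb M (Coh.toGlobal (X ↘ Spec (CommRingCat.of R)) a)) x).symm.trans ?_
      exact Coh.smulAb_app M _ _ _ }

theorem h0Equiv_map {M N : X.Modules} (φ : M ⟶ N) (x : Coh.HH X M 0) :
    h0Equiv R N (mapLin R φ 0 x) = φ.app ⊤ (h0Equiv R M x) :=
  (Sheaf.H.equiv₀_naturality Limits.isTerminalTop ((QCoh.toAbFunctor X).map φ) x).symm

variable [IsNoetherianRing R] [IsProper (X ↘ Spec (CommRingCat.of R))]

include R in
theorem compactSpace : CompactSpace X := AmpleVan.compactSpace_of_proper (A := R)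

include R in
theorem isNoetherian : AlgebraicGeometry.IsNoetherian X := by
  haveI := compactSpace (X := X) R
  haveI : IsLocallyNoetherian X := LocallyOfFiniteType.isLocallyNoetherian (X ↘ Spec (CommRingCat.of R))
  exact { __ := ‹IsLocallyNoetherian X›, __ := ‹CompactSpace X› }

theorem finite_gamma {M : X.Modules} (hM : Coh.IsCoh M) : Module.Finite R Γ(M, ⊤) :=
  haveI := S0002.result R X M hM 0
  Module.Finite.equiv (h0Equiv R M)

/-- Above some degree the global sections of the twists are generated by those below. -/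
theorem exists_gen {F : X.Modules} (hF : Coh.IsCoh F) :
    ∃ e, ∀ n, e ≤ n → ⨆ i, LinearMap.range (Pol.appR R (P.m F i n) (⊤ : X.Opens)) = ⊤ := by
  haveI := isNoetherian (X := X) R
  let S := twSys P.inv (fun k => InvX.one (P.s k)) F
  obtain ⟨e, he⟩ := FFun.Gen.exists_genHH (A := R) (fun N hN p => S0002.result R X N hN p) 0 S
    (fun n => isCoh_itw P.inv hF n) 0 (genFrom_twSys P.inv P.s P.cover F)
  refine ⟨e, fun n hn => ?_⟩
  refine eq_top_iff.2 fun y hy0 => ?_
  clear hy0
  obtain ⟨x, rfl⟩ := (h0Equiv R (P.G F (n + 1))).surjective y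
  have hx : x ∈ ⨆ i, LinearMap.range (mapLin R (S.t n i) 0) := (he n hn).ge Submodule.mem_top
  induction hx using Submodule.iSup_induction' with
  | mem i x hx =>
    obtain ⟨z, rfl⟩ := hx
    exact Submodule.mem_iSup_of_mem i ⟨h0Equiv R (P.G F n) z, (h0Equiv_map R (P.m F i n) z).symm⟩
  | zero => exact (h0Equiv R (P.G F (n + 1))).map_zero.symm ▸ zero_mem _
  | add a b _ _ ha hb => exact ((h0Equiv R (P.G F (n + 1))).map_add a b).symm ▸ add_mem ha hb

/-- Twisting once more. -/
def shiftIso (F : X.Modules) (e : ℕ) : ∀ d, P.G (P.G F e) d ≅ P.G F (e + d)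
  | 0 => Iso.refl _
  | d + 1 => (tw P.L).mapIso (shiftIso F e d)

theorem shiftIso_m (F : X.Modules) (e : ℕ) (i : Fin r) (d : ℕ) :
    P.m (P.G F e) i d ≫ (shiftIso P F e (d + 1)).hom = (shiftIso P F e d).hom ≫ P.m F i (e + d) :=
  (mulSec_naturality (P.σ i) (shiftIso P F e d).hom).symm

/-- A high twist has its sections generated in degree zero. -/
theorem exists_genZero {F : X.Modules} (hF : Coh.IsCoh F) :
    ∃ e, ∀ e', e ≤ e' → P.GenZero R (P.G F e') := by
  haveI := isNoetherian (X := X) R
  obtain ⟨e, he⟩ := exists_gen P R hF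
  refine ⟨e, fun e' he' => ⟨finite_gamma R (isCoh_itw P.inv hF e'), fun d => eq_top_iff.2 fun y hy0 => ?_⟩⟩
  clear hy0
  let ι : ∀ d, Γ(P.G (P.G F e') d, ⊤) ≃ₗ[R] Γ(P.G F (e' + d), ⊤) := fun d =>
    LinearEquiv.ofBijective (Pol.appR R (shiftIso P F e' d).hom ⊤)
      ((ConcreteCategory.isIso_iff_bijective _).1 (Scheme.Modules.Hom.isIso_iff_isIso_app.1 inferInstance ⊤))
  obtain ⟨y', rfl⟩ := (ι (d + 1)).symm.surjective y
  have hy : y' ∈ ⨆ i, LinearMap.range (Pol.appR R (P.m F i (e' + d)) (⊤ : X.Opens)) :=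
    (he (e' + d) (by omega)).ge Submodule.mem_top
  induction hy using Submodule.iSup_induction' with
  | mem i x hx =>
    obtain ⟨z, rfl⟩ := hx
    refine Submodule.mem_iSup_of_mem i ⟨(ι d).symm z, (ι (d + 1)).injective ?_⟩
    rw [LinearEquiv.apply_symm_apply]
    refine (congr(($(shiftIso_m P F e' i d)).app ⊤ ((ι d).symm z)) : _).trans ?_
    exact congrArg ((P.m F i (e' + d)).app ⊤) ((ι d).apply_symm_apply z)
  | zero => exact (ι (d + 1)).symm.map_zero.symm ▸ zero_mem _
  | add a b _ _ ha hb => exact ((ι (d + 1)).symm.map_add a b).symm ▸ add_mem ha hb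

omit P in
theorem euler_eq_finrank {K : Type u} [Field K] {Y : Scheme.{u}} [Y.Over (Spec (CommRingCat.of K))] (M : Y.Modules)
    (h : ∀ q, Subsingleton (Coh.HH Y M (q + 1))) : Curv2.euler K Y M = (Module.finrank K Γ(M, ⊤) : ℤ) := by
  unfold Curv2.euler
  rw [finsum_eq_single _ 0 fun i hi => by
    obtain ⟨q, rfl⟩ := Nat.exists_eq_succ_of_ne_zero hi
    haveI := h q
    rw [Module.finrank_zero_of_subsingleton, Nat.cast_zero, mul_zero]]
  rw [pow_zero, one_mul, (h0Equiv K M).finrank_eq]

/-- For high twists over a field the Euler characteristic counts the sections. -/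
theorem exists_euler_eq {K : Type u} [Field K] {Y : Scheme.{u}} [Y.Over (Spec (CommRingCat.of K))]
    [IsProper (Y ↘ Spec (CommRingCat.of K))] (P : Pol Y r) {F : Y.Modules} (hF : Coh.IsCoh F) :
    ∃ N, ∀ n, N ≤ n → (∀ q, Subsingleton (Coh.HH Y (P.G F n) (q + 1))) ∧
      Curv2.euler K Y (P.G F n) = (Module.finrank K Γ(P.G F n, ⊤) : ℤ) := by
  haveI := isNoetherian (X := Y) K
  haveI : QuasiSeparatedSpace Y := inferInstance
  choose N hN using fun q => exists_vanishing_itw P.inv P.s P.affine P.cover K hF q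
  obtain ⟨B, hB⟩ := QCoh.exists_HH_bound (X := Y)
  refine ⟨(Finset.range B).sup N, fun n hn => ?_⟩
  have h : ∀ q, Subsingleton (Coh.HH Y (P.G F n) (q + 1)) := fun q => by
    rcases Nat.lt_or_ge q B with hq | hq
    · exact hN q n ((Finset.le_sup (Finset.mem_range.2 hq)).trans hn)
    · exact hB _ (P.isQCoh_G hF.1 n) _ (by omega)
  exact ⟨h, euler_eq_finrank _ h⟩

end Groth.Agent.FlatG
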