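import Groth.Agent.FlatG.FlatC
import Groth.Agent.LocRepX.Sub
import Mathlib.AlgebraicGeometry.Morphisms.Immersion
import Mathlib.AlgebraicGeometry.Limits
import Mathlib.Topology.LocallyConstant.Basic
import Mathlib.Algebra.Polynomial.Eval.Defs

/-!
# Gluing the flattening strata
-/

set_option autoImplicit false
set_option linter.style.haveILetI false
set_option backward.isDefEq.respectTransparency false
set_option backward.isDefEq.respectTransparency.types false

universe u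

open CategoryTheory CategoryTheory.Limits AlgebraicGeometry TopologicalSpace Opposite

noncomputable section

namespace Groth.Agent.FlatG

open Groth.Agent

/-- Modules over the spectrum of a field are flat. -/
theorem isFlatOver_spec_field {K : Type u} [Field K] {X : Scheme.{u}} (f : X ⟶ Spec (CommRingCat.of K))
    (M : X.Modules) : FlatMod.IsFlatOver f M := fun x => by
  rw [QCoh.isFlatOverAt_iff f (V := (⊤ : (Spec (CommRingCat.of K)).Opens)) (isAffineOpen_top _)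
    (le_top : (⊤ : X.Opens) ≤ f ⁻¹ᵁ ⊤) (trivial : x ∈ (⊤ : X.Opens))]
  letI : Field Γ(Spec (CommRingCat.of K), ⊤) := (MulEquiv.isField (Field.toIsField K)
    (Scheme.ΓSpecIso (CommRingCat.of K)).commRingCatIsoToRingEquiv.toMulEquiv).toField
  infer_instance

/-- The first polynomial is at most the second at all large integers. -/
def EvLE (P Q : Polynomial ℚ) : Prop :=
  ∃ m₀ : ℤ, ∀ m : ℤ, m₀ ≤ m → P.eval (m : ℚ) ≤ Q.eval (m : ℚ)

theorem evLE_refl (P : Polynomial ℚ) : EvLE P P := ⟨0, fun _ _ => le_rfl⟩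

variable {X S : Scheme.{u}} (f : X ⟶ S) (F : X.Modules) (hil : S → Polynomial ℚ)

/-- Flattening strata by Hilbert polynomials over an open subset. -/
structure LocalStrata (V : S.Opens) : Prop where
  fin : (hil '' (V : Set S)).Finite
  closed : ∀ Q, IsClosed {v : V | EvLE Q (hil v.1)}
  strata : ∀ Q, ∃ (Z : Scheme.{u}) (z : Z ⟶ (V : Scheme.{u})), IsImmersion z ∧
    ∀ ⦃T : Scheme.{u}⦄ (v : T ⟶ (V : Scheme.{u})),
      (∃ l, l ≫ z = v) ↔ (FlatC f F (v ≫ V.ι) ∧ ∀ t, hil ((v ≫ V.ι) t) = Q)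
  lc : ∀ ⦃T : Scheme.{u}⦄ (v : T ⟶ (V : Scheme.{u})), FlatC f F (v ≫ V.ι) →
    IsLocallyConstant fun t => hil ((v ≫ V.ι) t)

variable {f F hil} (hF : Coh.IsQCoh F) {ι : Type u} {V : ι → S.Opens} (hV : ⨆ i, V i = ⊤)
  (hloc : ∀ i, LocalStrata f F hil (V i))

include hF in
theorem flatC_fromSpecResidueField (s : S) : FlatC f F (S.fromSpecResidueField s) :=
  isFlatOver_spec_field _ _

include hV hloc in
theorem finite_range [CompactSpace S] : (Set.range hil).Finite := by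
  obtain ⟨t, ht⟩ := isCompact_univ.elim_finite_subcover (fun i => (V i : Set S)) (fun i => (V i).2)
    fun x _ => Set.mem_iUnion.2 (Opens.mem_iSup.1 (hV.ge (trivial : x ∈ (⊤ : S.Opens))))
  refine (t.finite_toSet.biUnion fun i _ => (hloc i).fin).subset ?_
  rintro _ ⟨s, rfl⟩
  obtain ⟨i, hi, hs⟩ := Set.mem_iUnion₂.1 (ht (Set.mem_univ s))
  exact Set.mem_biUnion hi ⟨s, hs, rfl⟩

include hV hloc in
theorem isClosed_evLE (Q : Polynomial ℚ) : IsClosed {s : S | EvLE Q (hil s)} := by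
  have hc : IsOpenCover V := hV
  rw [hc.isClosed_iff_coe_preimage]
  exact fun i => (hloc i).closed Q

include hF hV hloc in
theorem isLocallyConstant_hil {T : Scheme.{u}} (φ : T ⟶ S) (h : FlatC f F φ) :
    IsLocallyConstant fun t => hil (φ t) := by
  rw [IsLocallyConstant.iff_exists_open]
  intro t
  obtain ⟨i, hi⟩ := Opens.mem_iSup.1 (hV.ge (trivial : φ t ∈ (⊤ : S.Opens)))
  let W := φ ⁻¹ᵁ V i
  have hW : FlatC f F ((φ ∣_ V i) ≫ (V i).ι) := by
    rw [morphismRestrict_ι]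
    exact flatC_comp hF _ φ h
  obtain ⟨O, hO, htO, hOc⟩ := (IsLocallyConstant.iff_exists_open _).1 ((hloc i).lc (φ ∣_ V i) hW) ⟨t, hi⟩
  refine ⟨W.ι '' O, W.ι.isOpenEmbedding.isOpenMap _ hO, ⟨⟨t, hi⟩, htO, rfl⟩, ?_⟩
  rintro _ ⟨t', ht', rfl⟩
  have := hOc t' ht'
  simp only [morphismRestrict_ι] at this
  exact this

include hF hV hloc in
/-- The stratum of a polynomial. -/
theorem exists_stratum (Q : Polynomial ℚ) :
    ∃ (W : Scheme.{u}) (j : W ⟶ S), IsImmersion j ∧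
      (∀ ⦃T : Scheme.{u}⦄ (φ : T ⟶ S), (∃ l, l ≫ j = φ) ↔ (FlatC f F φ ∧ ∀ t, hil (φ t) = Q)) ∧
      Set.range j = {s | hil s = Q} := by
  let Good : ∀ ⦃T : Scheme.{u}⦄, (T ⟶ S) → Prop := fun T φ => FlatC f F φ ∧ ∀ t, hil (φ t) = Q
  have hstab : ∀ ⦃T T' : Scheme.{u}⦄ (a : T' ⟶ T) (φ : T ⟶ S), Good φ → Good (a ≫ φ) := fun T T' a φ h =>
    ⟨flatC_comp hF a φ h.1, fun t => h.2 (a t)⟩
  have hlocG : ∀ ⦃T : Scheme.{u}⦄ (𝒰 : Scheme.OpenCover.{u} T) (φ : T ⟶ S),
      (∀ i, Good (𝒰.f i ≫ φ)) → Good φ := fun T 𝒰 φ h => by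
    refine ⟨flatC_of_cover hF (fun i => 𝒰.f i) (fun x => ?_) φ fun i => (h i).1, fun t => ?_⟩
    · obtain ⟨i, y, hy⟩ := 𝒰.exists_eq x
      exact ⟨i, y, hy⟩
    · obtain ⟨i, y, rfl⟩ := 𝒰.exists_eq t
      exact (h i).2 y
  choose Z z hz hzu using fun i => (hloc i).strata Q
  haveI : ∀ i, IsImmersion (z i) := hz
  obtain ⟨W, j, -, huniv, hQ⟩ := LocRepX.exists_representing Good hstab hlocG V hV Z z fun i T v => hzu i v
  refine ⟨W, j, hQ @IsImmersion hz, fun T φ => huniv φ, Set.ext fun s => ⟨?_, fun hs => ?_⟩⟩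
  · rintro ⟨w, rfl⟩
    exact ((huniv j).1 ⟨𝟙 W, Category.id_comp _⟩).2 w
  · obtain ⟨l, hl⟩ := (huniv (S.fromSpecResidueField s)).2 ⟨flatC_fromSpecResidueField hF s, fun t => by
      rw [Scheme.fromSpecResidueField_apply]; exact hs⟩
    refine ⟨l (IsLocalRing.closedPoint (S.residueField s)), ?_⟩
    rw [← Scheme.Hom.comp_apply, hl, Scheme.fromSpecResidueField_apply]

include hF hV hloc in
/-- The flattening stratification by Hilbert polynomials. -/
theorem exists_stratification [CompactSpace S] :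
    ∃ (I : Finset (Polynomial ℚ)) (St : ↥I → Scheme.{u}) (e : ∀ P : ↥I, St P ⟶ S),
      (∀ P, IsImmersion (e P)) ∧
      (∀ (P : ↥I) (s : S), s ∈ Set.range (e P) ↔ hil s = (P : Polynomial ℚ)) ∧
      (∀ s : S, hil s ∈ I) ∧
      (∀ (T : Scheme.{u}) (φ : T ⟶ S), FlatC f F φ ↔ ∃ g : T ⟶ ∐ St, g ≫ Limits.Sigma.desc e = φ) ∧
      (∀ P : ↥I, closure (Set.range (e P)) ⊆
        ⋃ Q ∈ {Q : ↥I | EvLE (P : Polynomial ℚ) (Q : Polynomial ℚ)}, Set.range (e Q)) := by
  let I := (finite_range hV hloc).toFinset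
  have hI : ∀ s, hil s ∈ I := fun s => (finite_range hV hloc).mem_toFinset.2 ⟨s, rfl⟩
  choose St e he hu hr using fun P : ↥I => exists_stratum hF hV hloc (P : Polynomial ℚ)
  have hrange : ∀ (P : ↥I) (s : S), s ∈ Set.range (e P) ↔ hil s = (P : Polynomial ℚ) := fun P s => by
    rw [hr P]; rfl
  refine ⟨I, St, e, he, hrange, hI, fun T φ => ⟨fun h => ?_, ?_⟩, fun P => ?_⟩
  · have hlc := isLocallyConstant_hil hF hV hloc φ h
    let U : ↥I → T.Opens := fun P => ⟨{t | hil (φ t) = (P : Polynomial ℚ)}, hlc.isOpen_fiber _⟩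
    have hU : IsOpenCover U := IsOpenCover.mk (top_le_iff.1 fun t _ => Opens.mem_iSup.2 ⟨⟨_, hI (φ t)⟩, rfl⟩)
    choose l hl using fun P : ↥I => (hu P ((U P).ι ≫ φ)).2 ⟨flatC_comp hF _ φ h, fun t => t.2⟩
    let 𝒰 := T.openCoverOfIsOpenCover U hU
    haveI : ∀ P, IsImmersion (e P) := he
    refine ⟨Scheme.Cover.glueMorphisms 𝒰 (fun P => l P ≫ Sigma.ι St P) ?_,
      Scheme.Cover.hom_ext 𝒰 _ _ fun P => ?_⟩
    · intro (P : ↥I) (P' : ↥I)
      show pullback.fst (U P).ι (U P').ι ≫ l P ≫ Sigma.ι St P = pullback.snd (U P).ι (U P').ι ≫ l P' ≫ Sigma.ι St P'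
      by_cases hPP : P = P'
      · subst hPP
        rw [← Category.assoc, ← Category.assoc]
        refine congrArg (· ≫ Sigma.ι St P) ?_
        rw [← cancel_mono (e P), Category.assoc, Category.assoc, hl]
        exact pullback.condition_assoc φ
      · haveI : IsEmpty (pullback (U P).ι (U P').ι : Scheme.{u}) := ⟨fun z => hPP (Subtype.ext ((
          (pullback.fst (U P).ι (U P').ι z).2.symm.trans
          (congrArg (fun t => hil (φ t)) (congr($(pullback.condition (f := (U P).ι) (g := (U P').ι)) z) :))).trans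
          (pullback.snd (U P).ι (U P').ι z).2))⟩
        exact isInitialOfIsEmpty.hom_ext _ _
    · rw [Scheme.Cover.ι_glueMorphisms_assoc, Category.assoc, Sigma.ι_desc, hl]
      rfl
  · rintro ⟨g, rfl⟩
    refine flatC_of_cover hF (fun P : ↥I => pullback.fst g (Sigma.ι St P)) (fun x => ?_) _ fun P => ?_
    · obtain ⟨P, y, hy⟩ := (sigmaOpenCover St).exists_eq (g x)
      obtain ⟨z, hz, -⟩ := Scheme.Pullback.exists_preimage_pullback (f := g) (g := Sigma.ι St P) x y hy.symm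
      exact ⟨P, z, hz⟩
    · rw [pullback.condition_assoc, Sigma.ι_desc]
      exact flatC_comp hF _ _ ((hu P (e P)).1 ⟨𝟙 _, Category.id_comp _⟩).1
  · refine (closure_minimal (fun s hs => ?_) (isClosed_evLE hV hloc (P : Polynomial ℚ))).trans ?_
    · show EvLE (P : Polynomial ℚ) (hil s)
      rw [(hrange P s).1 hs]
      exact evLE_refl _
    · intro s hs
      exact Set.mem_biUnion (x := (⟨hil s, hI s⟩ : ↥I)) hs ((hrange _ s).2 rfl)

end Groth.Agent.FlatG
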