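import Groth.Agent.HilbPoly.Misc
import Groth.Agent.CurveCohLib.Rank

/-!
# Euler characteristics of all the integral twists are polynomial
-/

set_option autoImplicit false
set_option linter.style.haveILetI false
set_option backward.isDefEq.respectTransparency false
set_option backward.isDefEq.respectTransparency.types false

universe u

open CategoryTheory AlgebraicGeometry TopologicalSpace Opposite

attribute [local instance] HasDerivedCategory.standard

noncomputable section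

namespace Groth.Agent.FlatG

open Groth.Agent

variable {Y : Scheme.{u}} {k : Type u} [Field k] [Y.Over (Spec (CommRingCat.of k))]
  [IsProper (Y ↘ Spec (CommRingCat.of k))]

omit [Field k] [Y.Over (Spec (CommRingCat.of k))] [IsProper (Y ↘ Spec (CommRingCat.of k))] in
theorem nonempty_tensorPow {O : ℤ → Y.Modules} (h0 : Nonempty (O 0 ≅ Coh.structureModule Y))
    (hadd : ∀ a b, Nonempty (CohB1.tensorMod (O a) (O b) ≅ O (a + b))) :
    ∀ n : ℕ, Nonempty (CohB1.tensorPow (O 1) n ≅ O n)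
  | 0 => by
    obtain ⟨e⟩ := h0
    exact ⟨e.symm⟩
  | n + 1 => by
    obtain ⟨e⟩ := nonempty_tensorPow h0 hadd n
    obtain ⟨e'⟩ := hadd n 1
    rw [show ((n + 1 : ℕ) : ℤ) = (n : ℤ) + 1 from Nat.cast_succ n]
    exact ⟨(DCoh.tensorBi.mapIso e).app (O 1) ≪≫ e'⟩

/-- The Euler characteristics of all the integral twists of a coherent module are given by one polynomial. -/
theorem exists_poly_int {O : ℤ → Y.Modules} (hinv : ∀ a, PicF.IsInvertible (O a))
    (h0 : Nonempty (O 0 ≅ Coh.structureModule Y))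
    (hadd : ∀ a b, Nonempty (CohB1.tensorMod (O a) (O b) ≅ O (a + b))) {F : Y.Modules} (hF : Coh.IsCoh F) :
    ∃ P : Polynomial ℚ, ∀ m : ℤ, (Curv2.euler k Y (CohB1.tensorMod F (O m)) : ℚ) = P.eval (m : ℚ) := by
  haveI : IsNoetherian Y := CurveCohLib.isNoetherian_of_proper (k := k)
  obtain ⟨d, hd⟩ := HilbPoly.exists_dim_bound Y k
  have step : ∀ M : ℕ, ∃ P : Polynomial ℚ, ∀ m : ℤ, -(M : ℤ) ≤ m →
      (Curv2.euler k Y (CohB1.tensorMod F (O m)) : ℚ) = P.eval (m : ℚ) := fun M => by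
    let G := CohB1.tensorMod F (O (-(M : ℤ)))
    obtain ⟨Q, hQ, -, -⟩ := HilbPoly.exists_poly (HilbPoly.additive_euler k) (hinv 1)
      (AmpleVan.isCoh_tensor hF (AmpleVan.isCoh_invertible (hinv (-(M : ℤ)))) : Coh.IsCoh G) (hd _)
    refine ⟨Q.comp (Polynomial.X + Polynomial.C (M : ℚ)), fun m hm => ?_⟩
    obtain ⟨j, hj⟩ : ∃ j : ℕ, m + M = j := ⟨(m + M).toNat, by omega⟩
    obtain ⟨e⟩ := nonempty_tensorPow h0 hadd j
    obtain ⟨e'⟩ := hadd (-(M : ℤ)) j
    obtain ⟨e''⟩ := H23.PicMul.assoc F (O (-(M : ℤ))) (O j)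
    have hiso : Curv2.euler k Y (HilbPoly.pw (O 1) G j) = Curv2.euler k Y (CohB1.tensorMod F (O m)) := by
      refine (HilbPoly.additive_euler k).iso _ _ ⟨?_⟩
      rw [show m = -(M : ℤ) + (j : ℤ) by omega]
      exact (DCoh.tensorBi.obj G).mapIso e ≪≫ e'' ≪≫ (DCoh.tensorBi.obj F).mapIso e'
    rw [← hiso, hQ j, Polynomial.eval_comp, Polynomial.eval_add, Polynomial.eval_X, Polynomial.eval_C]
    congr 1
    exact_mod_cast hj.symm
  obtain ⟨P, hP⟩ := step 0
  refine ⟨P, fun m => ?_⟩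
  obtain ⟨Q, hQ⟩ := step m.natAbs
  have : Q = P := HilbPoly.poly_ext 0 fun j _ => by
    rw [← Int.cast_natCast j, ← hQ j (by omega), ← hP j (by omega)]
  rw [hQ m (by omega), this]

end Groth.Agent.FlatG
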