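import Groth.Agent.AmpleDesc5.Proper
import Groth.Agent.AmpleDesc5.RelStage
import Groth.Agent.FPEnough.Descend
import Groth.Agent.QCoh.Support

/-!
# Noetherian models of a proper morphism with an ample sheaf and a module
-/

set_option autoImplicit false
set_option maxHeartbeats 1000000
set_option synthInstance.maxHeartbeats 400000
set_option linter.style.haveILetI false
set_option backward.isDefEq.respectTransparency.types false
set_option backward.isDefEq.respectTransparency false

universe u

open CategoryTheory CategoryTheory.Limits AlgebraicGeometry TopologicalSpace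
open Groth.Agent Groth.Agent.ConsPropLib Groth.Agent.AmpleDesc5

namespace Groth.Agent.FlatG

open NoethApprox in
/-- A proper morphism of finite presentation to an affine scheme, with a relatively ample sheaf and a
module of finite presentation, has a Noetherian model. -/
theorem exists_model_amp {A : CommRingCat.{u}} {X : Scheme.{u}} (f : X ⟶ Spec A) [IsProper f]
    [LocallyOfFinitePresentation f] {L : X.Modules} (hL : RelAmple.IsRelAmple f L) {F : X.Modules}
    (hF : CohB1.IsFP F) :
    ∃ (S₀ X₀ : Scheme.{u}) (ρ : Spec A ⟶ S₀) (f₀ : X₀ ⟶ S₀) (q : X ⟶ X₀) (L₀ F₀ : X₀.Modules),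
      IsNoetherian S₀ ∧ IsAffine S₀ ∧ IsProper f₀ ∧ IsPullback q f f₀ ρ ∧
      CohB1.IsAmple L₀ ∧ Coh.IsCoh F₀ ∧
      Nonempty ((Scheme.Modules.pullback q).obj L₀ ≅ L) ∧
      Nonempty ((Scheme.Modules.pullback q).obj F₀ ≅ F) := by
  obtain ⟨i, Xi, fi, g, hm⟩ := hasModel (NoethApprox.isLimit A) (c := NoethApprox.cone A) f
  haveI := hm.qc; haveI := hm.qs
  haveI : CompactSpace Xi := hm.compactSpace
  haveI : QuasiSeparatedSpace Xi := hm.quasiSeparatedSpace
  obtain ⟨l, φ, hl⟩ := core_isProper _ (diagram A) (NoethApprox.cone A) (NoethApprox.isLimit A)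
    (fun _ _ _ => inferInstance) i inferInstance fi inferInstance inferInstance hm.lfp
    (MorLib.Desc.of_two @IsProper hm.sq (IsPullback.of_hasPullback _ _) inferInstance)
  haveI := hl
  have hl' := hm.pushed φ
  let fl := pullback.snd fi ((diagram A).map φ)
  haveI : CompactSpace ↥(pullback fi ((diagram A).map φ)) := hl'.compactSpace
  haveI : QuasiSeparatedSpace ↥(pullback fi ((diagram A).map φ)) := hl'.quasiSeparatedSpace
  let D' := MorLib.BC.diag (diagram A) fl
  have hc' := MorLib.BC.isLimitCone (diagram A) fl (c := NoethApprox.cone A) hl'.sq (NoethApprox.isLimit A)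
  haveI : ∀ {a b : Over l} (r : a ⟶ b), IsAffineHom (D'.map r) := fun r => MorLib.BC.isAffineHom_map _ fl r
  haveI : ∀ a, CompactSpace (D'.obj a) := fun a => MorLib.BC.compactSpace_obj (diagram A) fl a
  haveI : ∀ a, QuasiSeparatedSpace (D'.obj a) := fun a => MorLib.BC.quasiSeparatedSpace_obj (diagram A) fl a
  have hinv := AmpleX.isInvertible_of_isRelAmple hL
  obtain ⟨j₁, M, hM, ⟨eM⟩⟩ := exists_invertible_stage D' hc' (L := L) hinv
  obtain ⟨j₂, -, G, hG, hGfp, ⟨eG⟩⟩ := FPEnough.exists_module_descend (i := Over.mk (𝟙 l)) hc'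
    (F := F) (QCoh.isQCoh_of_isFP hF) hF
  obtain ⟨k, a, b, -⟩ := IsCofilteredOrEmpty.cone_objs j₁ j₂
  let fk : D'.obj k ⟶ (diagram A).obj k.left := pullback.snd fl ((diagram A).map k.hom)
  haveI : IsProper fk := MorphismProperty.pullback_snd _ _ inferInstance
  let qk : X ⟶ D'.obj k := MorLib.BC.proj (diagram A) fl (c := NoethApprox.cone A) hl'.sq k
  have sqk : IsPullback qk f fk ((NoethApprox.cone A).π.app k.left) :=
    MorLib.BC.isPullback_proj (diagram A) fl (c := NoethApprox.cone A) hl'.sq k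
  let Mk := (Scheme.Modules.pullback (D'.map a)).obj M
  let Gk := (Scheme.Modules.pullback (D'.map b)).obj G
  have hMk : PicF.IsInvertible Mk := PicClLib.isInvertible_pullback _ hM
  let eMk : (Scheme.Modules.pullback qk).obj Mk ≅ L :=
    (Scheme.Modules.pullbackComp _ _).app M ≪≫
      (Scheme.Modules.pullbackCongr ((MorLib.BC.cone (diagram A) fl (c := NoethApprox.cone A) hl'.sq).w a)).app M ≪≫ eM
  let eGk : (Scheme.Modules.pullback qk).obj Gk ≅ F :=
    (Scheme.Modules.pullbackComp _ _).app G ≪≫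
      (Scheme.Modules.pullbackCongr ((MorLib.BC.cone (diagram A) fl (c := NoethApprox.cone A) hl'.sq).w b)).app G ≪≫ eG
  obtain ⟨j, ψ, hj⟩ := exists_isRelAmple_stage (diagram A) (NoethApprox.isLimit A) fk hMk
    (isRelAmple_congr sqk (IsPullback.of_hasPullback _ _) (isRelAmple_of_moduleIso eMk.symm hL))
  let X₀ := pullback fk ((diagram A).map ψ)
  let f₀ : X₀ ⟶ (diagram A).obj j := pullback.snd fk ((diagram A).map ψ)
  let π : X₀ ⟶ D'.obj k := pullback.fst fk ((diagram A).map ψ)
  haveI : IsProper f₀ := MorphismProperty.pullback_snd _ _ inferInstance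
  let q : X ⟶ X₀ := pullback.lift qk (f ≫ (NoethApprox.cone A).π.app j)
    (by rw [sqk.w, Category.assoc, (NoethApprox.cone A).w])
  have sq : IsPullback q f f₀ ((NoethApprox.cone A).π.app j) := by
    refine IsPullback.of_right ?_ (pullback.lift_snd _ _ _) (IsPullback.of_hasPullback fk ((diagram A).map ψ))
    rw [show q ≫ pullback.fst fk ((diagram A).map ψ) = qk from pullback.lift_fst _ _ _,
      (NoethApprox.cone A).w]
    exact sqk
  have hπ : q ≫ π = qk := pullback.lift_fst _ _ _
  haveI : IsLocallyNoetherian X₀ := LocallyOfFiniteType.isLocallyNoetherian f₀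
  have hGk : Coh.IsQCoh Gk := QCoh.isQCoh_pullback _ hG
  refine ⟨(diagram A).obj j, X₀, (NoethApprox.cone A).π.app j, f₀, q,
    (Scheme.Modules.pullback π).obj Mk, (Scheme.Modules.pullback π).obj Gk,
    inferInstance, inferInstance, inferInstance, sq, (AmpleX.isRelAmple_iff_isAmple f₀ _).1 hj,
    QCoh.isCoh_iff_isFP.2 (LimModLib.isFP_pullback π hGk (LimModLib.isFP_pullback _ hG hGfp)),
    ⟨(Scheme.Modules.pullbackComp q π).app Mk ≪≫ (Scheme.Modules.pullbackCongr hπ).app Mk ≪≫ eMk⟩,
    ⟨(Scheme.Modules.pullbackComp q π).app Gk ≪≫ (Scheme.Modules.pullbackCongr hπ).app Gk ≪≫ eGk⟩⟩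

end Groth.Agent.FlatG
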