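import Groth.Agent.FlatG.Local
import Groth.Agent.FlatG.ZPoly
import Groth.Agent.FlatG.Model
import Groth.Agent.AmpleX.Generated
import Groth.Agent.AmpleVan.RelVanish
import Groth.Agent.AmpleVan.RelCrit
import Groth.Agent.CurveBC.Coh
import Groth.Prelude.Def_LCI2

/-!
# Hilbert polynomial strata of a proper morphism with a relatively ample sheaf
-/

set_option autoImplicit false
set_option maxHeartbeats 1000000
set_option synthInstance.maxHeartbeats 400000
set_option linter.style.haveILetI false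
set_option backward.isDefEq.respectTransparency.types false
set_option backward.isDefEq.respectTransparency false

universe u

open CategoryTheory CategoryTheory.Limits AlgebraicGeometry TopologicalSpace Opposite

attribute [local instance] HasDerivedCategory.standard

noncomputable section

namespace Groth.Agent.FlatG

open Groth.Agent
open scoped Groth.Agent.H23.PicMul

variable {X S : Scheme.{u}} (f : X ⟶ S) (L F : X.Modules)

/-- The Euler characteristics of the twists of a module on a fibre. -/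
def chiFib (s : S) (n : ℕ) : ℤ :=
  @Curv2.euler (S.residueField s) _ (f.fiber s) ⟨f.fiberToSpecResidueField s⟩
    ((Scheme.Modules.pullback (f.fiberι s)).obj (CohB1.tensorMod F (CohB1.tensorPow L n)))

theorem exists_fibre_poly_rel [IsProper f] (hL : PicF.IsInvertible L) (hF : CohB1.IsFP F) (s : S) :
    ∃ P : Polynomial ℚ, ∀ n : ℕ, (chiFib f L F s n : ℚ) = P.eval (n : ℚ) := by
  let k := S.residueField s
  letI : (f.fiber s).Over (Spec (CommRingCat.of k)) := ⟨f.fiberToSpecResidueField s⟩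
  haveI : IsProper (f.fiber s ↘ Spec (CommRingCat.of k)) :=
    MorphismProperty.pullback_snd f (S.fromSpecResidueField s) ‹IsProper f›
  haveI := CurveCohLib.isNoetherian_of_proper (k := k) (X := f.fiber s)
  have hFs : Coh.IsCoh ((Scheme.Modules.pullback (f.fiberι s)).obj F) :=
    QCoh.isCoh_iff_isFP.2 (LimModLib.isFP_pullback _ (QCoh.isQCoh_of_isFP hF) hF)
  obtain ⟨d, hd⟩ := HilbPoly.exists_dim_bound (f.fiber s) k
  obtain ⟨P, hP, -, -⟩ := HilbPoly.exists_poly (HilbPoly.additive_euler k)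
    (PicClLib.isInvertible_pullback (f.fiberι s) hL) hFs (hd _)
  refine ⟨P, fun n => ?_⟩
  rw [← hP n]
  obtain ⟨e⟩ := AmpleVan.RelVanish.pullback_twist_iso (f.fiberι s) L F n
  exact congrArg Int.cast (CurveCohLib.euler_congr (k := k) e)

variable [IsProper f] (hL : PicF.IsInvertible L) (hF : CohB1.IsFP F)

/-- The Hilbert polynomial of a fibre. -/
def hilRel (s : S) : Polynomial ℚ :=
  (exists_fibre_poly_rel f L F hL hF s).choose

theorem hilRel_spec (s : S) (n : ℕ) : (chiFib f L F s n : ℚ) = (hilRel f L F hL hF s).eval (n : ℚ) :=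
  (exists_fibre_poly_rel f L F hL hF s).choose_spec n

theorem hilRel_eq_iff (s : S) (Q : Polynomial ℚ) :
    hilRel f L F hL hF s = Q ↔ ∀ n : ℕ, (chiFib f L F s n : ℚ) = Q.eval (n : ℚ) :=
  ⟨fun h n => h ▸ hilRel_spec f L F hL hF s n, fun h =>
    HilbPoly.poly_ext 0 fun n _ => (hilRel_spec f L F hL hF s n).symm.trans (h n)⟩

theorem evLE_iff {P Q : Polynomial ℚ} :
    EvLE P Q ↔ ∃ N : ℕ, ∀ n : ℕ, N ≤ n → P.eval (n : ℚ) ≤ Q.eval (n : ℚ) := by
  refine ⟨fun ⟨m₀, h⟩ => ⟨m₀.toNat, fun n hn => ?_⟩, fun ⟨N, h⟩ => ⟨N, fun m hm => ?_⟩⟩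
  · rw [← Int.cast_natCast (R := ℚ) n]
    exact h n (by omega)
  · obtain ⟨n, rfl⟩ : ∃ n : ℕ, m = n := ⟨m.toNat, by omega⟩
    rw [Int.cast_natCast]
    exact h n (by omega)

/-- The substitution of a multiple of the variable. -/
abbrev scale (a : ℕ) (P : Polynomial ℚ) : Polynomial ℚ := P.comp (Polynomial.C (a : ℚ) * Polynomial.X)

theorem eval_scale (a : ℕ) (P : Polynomial ℚ) (x : ℚ) : (scale a P).eval x = P.eval (a * x) := by
  simp [scale]

theorem scale_injective {a : ℕ} (ha : 0 < a) {P Q : Polynomial ℚ} (h : scale a P = scale a Q) : P = Q := by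
  refine Polynomial.funext fun x => ?_
  have h1 := congrArg (Polynomial.eval (x / a)) h
  rwa [eval_scale, eval_scale, mul_div_cancel₀ _ (Nat.cast_ne_zero.2 ha.ne')] at h1

theorem evLE_scale_iff {a : ℕ} (ha : 0 < a) (P Q : Polynomial ℚ) :
    EvLE (scale a P) (scale a Q) ↔ EvLE P Q := by
  simp only [evLE_iff, eval_scale]
  constructor
  · rintro ⟨N, hN⟩
    suffices h : ∀ᶠ x : ℚ in Filter.atTop, 0 ≤ (Q - P).eval x by
      obtain ⟨c, hc⟩ := Filter.eventually_atTop.1 h
      obtain ⟨M, hM⟩ := exists_nat_ge c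
      refine ⟨M, fun n hn => ?_⟩
      have := hc (n : ℚ) (hM.trans (Nat.cast_le.2 hn))
      rw [Polynomial.eval_sub, sub_nonneg] at this
      exact this
    by_cases hd : 0 < (Q - P).degree
    · rcases le_or_gt 0 (Q - P).leadingCoeff with hlc | hlc
      · exact ((Q - P).tendsto_atTop_of_leadingCoeff_nonneg hd hlc).eventually_ge_atTop 0
      · have h1 := ((Q - P).tendsto_atBot_of_leadingCoeff_nonpos hd hlc.le).eventually (Filter.eventually_lt_atBot 0)
        obtain ⟨c, hc⟩ := Filter.eventually_atTop.1 h1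
        obtain ⟨M, hM⟩ := exists_nat_ge c
        have h2 := hc ((a : ℚ) * ((max N M : ℕ) : ℚ)) (hM.trans ((Nat.cast_le.2 (le_max_right N M)).trans
          (le_mul_of_one_le_left (Nat.cast_nonneg _) (Nat.one_le_cast.2 ha))))
        rw [Polynomial.eval_sub, sub_neg] at h2
        exact absurd (hN _ (le_max_left N M)) (not_le.2 h2)
    · have hC := Polynomial.eq_C_of_degree_le_zero (le_of_not_gt hd)
      refine Filter.Eventually.of_forall fun x => ?_
      have h2 := hN N le_rfl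
      rw [← sub_nonneg, ← Polynomial.eval_sub, hC, Polynomial.eval_C] at h2
      rwa [hC, Polynomial.eval_C]
  · rintro ⟨N, hN⟩
    refine ⟨N, fun n hn => ?_⟩
    rw [← Nat.cast_mul]
    exact hN (a * n) (hn.trans (Nat.le_mul_of_pos_left n ha))

omit [IsProper f] in
/-- Strata for substituted polynomials give strata for the polynomials. -/
theorem LocalStrata.of_scale {hil : S → Polynomial ℚ} {a : ℕ} (ha : 0 < a) {V : S.Opens}
    (h : LocalStrata f F (fun s => scale a (hil s)) V) : LocalStrata f F hil V := by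
  refine ⟨?_, fun Q => ?_, fun Q => ?_, fun T v hv => ?_⟩
  · refine Set.Finite.of_finite_image (f := scale a) ?_ fun P _ Q _ => scale_injective ha
    rw [Set.image_image]
    exact h.fin
  · have he : {v : V | EvLE Q (hil v.1)} = {v : V | EvLE (scale a Q) (scale a (hil v.1))} :=
      Set.ext fun v => (evLE_scale_iff ha _ _).symm
    rw [he]
    exact h.closed (scale a Q)
  · obtain ⟨Z, z, hz, hzu⟩ := h.strata (scale a Q)
    exact ⟨Z, z, hz, fun T v => (hzu v).trans (and_congr_right' (forall_congr' fun t =>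
      ⟨fun e => scale_injective ha e, fun e => congrArg (scale a) e⟩))⟩
  · have h1 := h.lc v hv
    rw [IsLocallyConstant.iff_exists_open] at h1 ⊢
    intro t
    obtain ⟨O, hO, htO, hOc⟩ := h1 t
    exact ⟨O, hO, htO, fun t' ht' => scale_injective ha (hOc t' ht')⟩

omit [IsProper f] in
/-- Strata over the whole base are inherited along a base change. -/
theorem LocalStrata.transfer {hil : S → Polynomial ℚ} {X₀ S₀ : Scheme.{u}} {f₀ : X₀ ⟶ S₀} {F₀ : X₀.Modules}
    {hil₀ : S₀ → Polynomial ℚ} (h : LocalStrata f₀ F₀ hil₀ ⊤) {V : S.Opens} (ρ : (V : Scheme.{u}) ⟶ S₀)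
    (hflat : ∀ ⦃T : Scheme.{u}⦄ (v : T ⟶ (V : Scheme.{u})), FlatC f F (v ≫ V.ι) ↔ FlatC f₀ F₀ (v ≫ ρ))
    (hval : ∀ x : V, hil x.1 = hil₀ (ρ x)) : LocalStrata f F hil V := by
  have hv : ∀ ⦃T : Scheme.{u}⦄ (v : T ⟶ (V : Scheme.{u})) (t : T), hil ((v ≫ V.ι) t) = hil₀ ((v ≫ ρ) t) :=
    fun T v t => hval (v t)
  refine ⟨?_, fun Q => ?_, fun Q => ?_, fun T v hT => ?_⟩
  · refine h.fin.subset ?_
    rintro _ ⟨x, hx, rfl⟩
    exact ⟨ρ ⟨x, hx⟩, trivial, (hval ⟨x, hx⟩).symm⟩
  · have he : {v : V | EvLE Q (hil v.1)} =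
        (fun x : V => (⟨ρ x, trivial⟩ : (⊤ : S₀.Opens))) ⁻¹' {w | EvLE Q (hil₀ w.1)} :=
      Set.ext fun x => Iff.of_eq (congrArg (EvLE Q) (hval x))
    rw [he]
    exact (h.closed Q).preimage (Continuous.subtype_mk ρ.continuous _)
  · obtain ⟨Z, z, hz, hzu⟩ := h.strata Q
    haveI := hz
    let ρ' : (V : Scheme.{u}) ⟶ ((⊤ : S₀.Opens) : Scheme.{u}) := ρ ≫ S₀.topIso.inv
    have hρ : ρ' ≫ (⊤ : S₀.Opens).ι = ρ :=
      (Category.assoc _ _ _).trans ((congrArg (ρ ≫ ·) S₀.topIso.inv_hom_id).trans (Category.comp_id _))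
    refine ⟨pullback z ρ', pullback.snd z ρ', MorphismProperty.pullback_snd _ _ hz, fun T v => ?_⟩
    rw [hflat v]
    have h1 := hzu (v ≫ ρ')
    rw [Category.assoc, hρ] at h1
    refine Iff.trans ⟨fun ⟨l, hl⟩ => ⟨l ≫ pullback.fst z ρ', ?_⟩, fun ⟨l, hl⟩ => ⟨pullback.lift l v hl, pullback.lift_snd _ _ _⟩⟩
      (h1.trans (and_congr_right' (forall_congr' fun t => Iff.of_eq (congrArg (· = Q) (hv v t).symm))))
    rw [Category.assoc, pullback.condition, ← Category.assoc, hl]
  · have h1 := h.lc (v ≫ ρ ≫ S₀.topIso.inv) (by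
      have hρ : (ρ ≫ S₀.topIso.inv) ≫ (⊤ : S₀.Opens).ι = ρ :=
        (Category.assoc _ _ _).trans ((congrArg (ρ ≫ ·) S₀.topIso.inv_hom_id).trans (Category.comp_id _))
      rw [Category.assoc, hρ]
      exact (hflat v).1 hT)
    rw [IsLocallyConstant.iff_exists_open] at h1 ⊢
    intro t
    obtain ⟨O, hO, htO, hOc⟩ := h1 t
    refine ⟨O, hO, htO, fun t' ht' => ?_⟩
    rw [hv v t', hv v t]
    exact hOc t' ht'

/-- Euler characteristics of fibres are invariant under base change. -/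
theorem euler_fibre_bc {X' S' : Scheme.{u}} {f' : X' ⟶ S'} {g : X' ⟶ X} {b : S' ⟶ S} (hc : IsPullback g f' f b)
    (t : S') (M : X.Modules) (hM : Coh.IsQCoh M) :
    @Curv2.euler (S'.residueField t) _ (f'.fiber t) ⟨f'.fiberToSpecResidueField t⟩
        ((Scheme.Modules.pullback (f'.fiberι t)).obj ((Scheme.Modules.pullback g).obj M)) =
      @Curv2.euler (S.residueField (b t)) _ (f.fiber (b t)) ⟨f.fiberToSpecResidueField (b t)⟩
        ((Scheme.Modules.pullback (f.fiberι (b t))).obj M) := by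
  let κ := S.residueField (b t)
  let K := S'.residueField t
  letI : Algebra κ K := (b.residueFieldMap t).hom.toAlgebra
  letI : (f.fiber (b t)).Over (Spec (CommRingCat.of κ)) := ⟨f.fiberToSpecResidueField (b t)⟩
  letI : (f'.fiber t).Over (Spec (CommRingCat.of K)) := ⟨f'.fiberToSpecResidueField t⟩
  haveI : IsProper (f.fiber (b t) ↘ Spec (CommRingCat.of κ)) :=
    MorphismProperty.pullback_snd f (S.fromSpecResidueField (b t)) ‹IsProper f›
  haveI := CurveCohLib.isNoetherian_of_proper (k := κ) (X := f.fiber (b t))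
  haveI : QuasiSeparatedSpace (f.fiber (b t)) :=
    quasiSeparatedSpace_of_quasiSeparated (f.fiber (b t) ↘ Spec (CommRingCat.of κ))
  have hout : IsPullback (f'.fiberι t ≫ g) (f'.fiberToSpecResidueField t) f (S'.fromSpecResidueField t ≫ b) :=
    (IsPullback.of_hasPullback f' (S'.fromSpecResidueField t)).paste_horiz hc
  have hb : Spec.map (b.residueFieldMap t) ≫ S.fromSpecResidueField (b t) = S'.fromSpecResidueField t ≫ b :=
    Scheme.Hom.SpecMap_residueFieldMap_fromSpecResidueField b t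
  let v : f'.fiber t ⟶ f.fiber (b t) := pullback.lift (f'.fiberι t ≫ g)
    (f'.fiberToSpecResidueField t ≫ Spec.map (b.residueFieldMap t))
    ((Category.assoc _ _ _).symm.trans (hout.w.trans ((congrArg (f'.fiberToSpecResidueField t ≫ ·) hb.symm).trans (Category.assoc _ _ _).symm)))
  have e1 : v ≫ f.fiberι (b t) = f'.fiberι t ≫ g := pullback.lift_fst _ _ _
  have hpb : IsPullback v (f'.fiber t ↘ Spec (CommRingCat.of K)) (f.fiber (b t) ↘ Spec (CommRingCat.of κ))
      (Spec.map (CommRingCat.ofHom (algebraMap κ K))) := by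
    refine IsPullback.of_right ?_ (pullback.lift_snd _ _ _) (IsPullback.of_hasPullback f (S.fromSpecResidueField (b t)))
    show IsPullback (v ≫ f.fiberι (b t)) (f'.fiberToSpecResidueField t) f
      (Spec.map (b.residueFieldMap t) ≫ S.fromSpecResidueField (b t))
    rw [e1, hb]
    exact hout
  show Curv2.euler K (f'.fiber t) _ = Curv2.euler κ (f.fiber (b t)) _
  exact (CurveCohLib.euler_congr (k := K) ((Scheme.Modules.pullbackComp (f'.fiberι t) g).app M ≪≫
    ((Scheme.Modules.pullbackCongr e1).app M).symm ≪≫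
    ((Scheme.Modules.pullbackComp v (f.fiberι (b t))).app M).symm)).trans
    (CurveBC.euler_eq κ K v hpb ((Scheme.Modules.pullback (f.fiberι (b t))).obj M) (QCoh.isQCoh_pullback _ hM))

theorem chiFib_bc {X' S' : Scheme.{u}} {f' : X' ⟶ S'} {g : X' ⟶ X} {b : S' ⟶ S} (hc : IsPullback g f' f b)
    {L' F' : X'.Modules} (eL : (Scheme.Modules.pullback g).obj L ≅ L') (eF : (Scheme.Modules.pullback g).obj F ≅ F')
    (hL : PicF.IsInvertible L) (hF : CohB1.IsFP F) (t : S') (n : ℕ) :
    chiFib f' L' F' t n = chiFib f L F (b t) n := by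
  obtain ⟨e⟩ := AmpleVan.RelVanish.pullback_twist_iso g L F n
  have hpow : ∀ m : ℕ, Nonempty (CohB1.tensorPow ((Scheme.Modules.pullback g).obj L) m ≅ CohB1.tensorPow L' m) :=
    fun m => H23.PicMul.cl_eq_iff.1 (by rw [H23.PicMul.cl_tensorPow, H23.PicMul.cl_tensorPow, H23.PicMul.cl_eq_iff.2 ⟨eL⟩])
  obtain ⟨e'⟩ := AmpleVan.RelVanish.tensor_congr eF (hpow n).some
  refine Eq.trans ?_ (euler_fibre_bc f hc t (CohB1.tensorMod F (CohB1.tensorPow L n))
    (AmpleVan.RelCrit.isQCoh_twist (QCoh.isQCoh_of_isFP hF) hL n))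
  letI : (f'.fiber t).Over (Spec (CommRingCat.of (S'.residueField t))) := ⟨f'.fiberToSpecResidueField t⟩
  exact CurveCohLib.euler_congr (k := S'.residueField t)
    ((Scheme.Modules.pullback (f'.fiberι t)).mapIso (e'.symm ≪≫ e.symm))

omit [IsProper f] in
theorem exists_pol [X.IsSeparated] {L : X.Modules} (hL : CohB1.IsAmple L) :
    ∃ (a r : ℕ) (_ : 0 < a) (P : Pol X r), P.L = CohB1.tensorPow L a := by
  haveI := hL.2.1
  obtain ⟨a, ha, κ, _, σ, hσ, -, hcov⟩ := AmpleX.exists_cover_genLocus hL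
  exact ⟨a, Fintype.card κ, ha,
    { L := CohB1.tensorPow L a
      inv := InvX.isInvertible_tensorPow hL.1 a
      s := fun i => σ ((Fintype.equivFin κ).symm i)
      affine := fun i => hσ _
      cover := fun x => by
        obtain ⟨k, hk⟩ := hcov x
        exact ⟨Fintype.equivFin κ k, by rwa [Equiv.symm_apply_apply]⟩ }, rfl⟩

/-- The strata over a Noetherian affine base with an ample sheaf. -/
theorem localStrata_top [IsAffine S] [IsNoetherian S] (hA : CohB1.IsAmple L) (hC : Coh.IsCoh F) :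
    LocalStrata f F (hilRel f L F hL hF) ⊤ := by
  haveI : X.IsSeparated := AmpleX.isSeparated_of_isAmple hA
  obtain ⟨a, r, ha, P, hP⟩ := exists_pol hA
  refine LocalStrata.of_scale f F ha ?_
  have hV : IsAffineOpen (⊤ : S.Opens) := isAffineOpen_top S
  haveI : IsNoetherianRing Γ(S, ⊤) := IsLocallyNoetherian.component_noetherian ⟨⊤, hV⟩
  letI : X.Over (Spec (CommRingCat.of Γ(S, ⊤))) := ⟨f ≫ S.isoSpec.hom⟩
  haveI : IsProper (X ↘ Spec (CommRingCat.of Γ(S, ⊤))) := inferInstanceAs (IsProper (f ≫ S.isoSpec.hom))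
  have hc : IsPullback (𝟙 X) (X ↘ Spec (CommRingCat.of Γ(S, ⊤))) f hV.fromSpec :=
    haveI : IsIso hV.fromSpec := by rw [IsAffineOpen.fromSpec_top]; infer_instance
    IsPullback.of_horiz_isIso ⟨by
      show 𝟙 X ≫ f = (f ≫ S.isoSpec.hom) ≫ hV.fromSpec
      rw [IsAffineOpen.fromSpec_top, Category.assoc, Iso.hom_inv_id, Category.comp_id, Category.id_comp]⟩
  refine localStrata hC hV hc P fun q => ?_
  let s : S := hV.fromSpec q
  obtain ⟨φ, hφ⟩ : ∃ φ, Spec.map φ = S.fromSpecResidueField s ≫ S.isoSpec.hom := ⟨Spec.preimage _, Spec.map_preimage _⟩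
  letI : Algebra Γ(S, ⊤) (S.residueField s) := φ.hom.toAlgebra
  have hℓ : Spec.map φ ≫ hV.fromSpec = S.fromSpecResidueField s := by
    rw [hφ, IsAffineOpen.fromSpec_top, Category.assoc, Iso.hom_inv_id, Category.comp_id]
  letI : (f.fiber s).Over (Spec (CommRingCat.of (S.residueField s))) := ⟨f.fiberToSpecResidueField s⟩
  have hv : IsPullback (f.fiberι s) (f.fiber s ↘ Spec (CommRingCat.of (S.residueField s)))
      (X ↘ Spec (CommRingCat.of Γ(S, ⊤))) (Spec.map φ) := by
    refine IsPullback.of_right ?_ ?_ hc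
    · rw [Category.comp_id, hℓ]
      exact IsPullback.of_hasPullback f (S.fromSpecResidueField s)
    · show f.fiberι s ≫ f ≫ S.isoSpec.hom = _ ≫ Spec.map φ
      rw [hφ, ← Category.assoc, ← Category.assoc]
      exact congrArg (· ≫ S.isoSpec.hom) (IsPullback.of_hasPullback f (S.fromSpecResidueField s)).w
  haveI : IsAffineHom (f.fiberι s) := MorphismProperty.of_isPullback hv.flip inferInstance
  refine ⟨S.residueField s, inferInstance, φ.hom.toAlgebra, f.fiber s, inferInstance, f.fiberι s, inferInstance,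
    hv, ?_, fun m => ?_⟩
  · refine hV.fromSpec.isOpenEmbedding.injective ?_
    show hV.fromSpec (Spec.map φ (⊥ : PrimeSpectrum (S.residueField s))) = hV.fromSpec q
    exact (congr(($hℓ) (⊥ : PrimeSpectrum (S.residueField s))) :).trans (Scheme.fromSpecResidueField_apply _ _)
  · obtain ⟨θ, -⟩ := AmpleVan.exists_itwIso (P.pull (f.fiberι s)).L
      ((Scheme.Modules.pullback (f.fiberι s)).obj ((Scheme.Modules.pullback (𝟙 X)).obj F)) m
    obtain ⟨e₁⟩ : Nonempty (CohB1.tensorPow P.L m ≅ CohB1.tensorPow L (a * m)) :=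
      H23.PicMul.cl_eq_iff.1 (by rw [hP, H23.PicMul.cl_tensorPow, H23.PicMul.cl_tensorPow, H23.PicMul.cl_tensorPow, pow_mul])
    obtain ⟨e₂⟩ := AmpleVan.RelVanish.pullback_twist_iso (f.fiberι s) P.L F m
    obtain ⟨e₃⟩ := AmpleVan.RelVanish.tensor_congr (Iso.refl F) e₁
    have hiso := θ ≪≫
      (DCoh.tensorBi.mapIso ((Scheme.Modules.pullback (f.fiberι s)).mapIso ((Scheme.Modules.pullbackId X).app F))).app _ ≪≫
      e₂.symm ≪≫ (Scheme.Modules.pullback (f.fiberι s)).mapIso e₃
    rw [eval_scale, ← Nat.cast_mul, ← hilRel_spec f L F hL hF]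
    exact congrArg Int.cast (CurveCohLib.euler_congr (k := S.residueField s) hiso)

/-- The strata over an affine open of the base. -/
theorem localStrata_rel [LocallyOfFinitePresentation f] (hA : RelAmple.IsRelAmple f L) {V : S.Opens}
    (hV : IsAffineOpen V) : LocalStrata f F (hilRel f L F hL hF) V := by
  let j := hV.fromSpec
  let fst := pullback.fst f j
  let fV := pullback.snd f j
  obtain ⟨S₀, X₀, ρ, f₀, q, L₀, F₀, hN, hS, hp, sq, hL₀, hF₀, ⟨eL⟩, ⟨eF⟩⟩ :=
    exists_model_amp fV (AmpleX.isRelAmple_baseChange f j hA)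
      (LimModLib.isFP_pullback fst (QCoh.isQCoh_of_isFP hF) hF)
  haveI := hN; haveI := hS; haveI := hp
  haveI : IsLocallyNoetherian X₀ := LocallyOfFiniteType.isLocallyNoetherian f₀
  have hF₀' : CohB1.IsFP F₀ := QCoh.isCoh_iff_isFP.1 hF₀
  refine LocalStrata.transfer f F (localStrata_top f₀ L₀ F₀ hL₀.1 hF₀' hL₀ hF₀) (hV.isoSpec.hom ≫ ρ)
    (fun T v => ?_) fun x => ?_
  · have h1 := flatC_base (QCoh.isQCoh_of_isFP hF) (IsPullback.of_hasPullback f j) (v ≫ hV.isoSpec.hom)
    have h2 := flatC_base hF₀.1 sq (v ≫ hV.isoSpec.hom)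
    have h3 : (v ≫ hV.isoSpec.hom) ≫ j = v ≫ V.ι := by
      rw [show j = hV.isoSpec.inv ≫ V.ι from hV.isoSpec_inv_ι.symm, Category.assoc, Iso.hom_inv_id_assoc]
    rw [h3] at h1
    rw [← h1, ← Category.assoc v, ← h2]
    exact ⟨LimModLib.isFlatOver_of_iso _ ((Scheme.Modules.pullback _).mapIso eF.symm),
      LimModLib.isFlatOver_of_iso _ ((Scheme.Modules.pullback _).mapIso eF)⟩
  · let t := hV.isoSpec.hom x
    have ht : j t = x.1 := by
      show hV.fromSpec (hV.isoSpec.hom x) = x.1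
      rw [← hV.isoSpec_inv_ι, ← Scheme.Hom.comp_apply, Iso.hom_inv_id_assoc]
      rfl
    show hilRel f L F hL hF x.1 = hilRel f₀ L₀ F₀ hL₀.1 hF₀' (ρ t)
    rw [hilRel_eq_iff]
    intro n
    rw [← hilRel_spec f₀ L₀ F₀ hL₀.1 hF₀', ← ht,
      ← chiFib_bc f L F (IsPullback.of_hasPullback f j) (Iso.refl _) (Iso.refl _) hL hF t n,
      chiFib_bc f₀ L₀ F₀ sq eL eF hL₀.1 hF₀' t n]

include hL hF in
theorem exists_localStrata_cover [LocallyOfFinitePresentation f] (hA : RelAmple.IsRelAmple f L) :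
    ∃ (ι : Type u) (V : ι → S.Opens), ⨆ i, V i = ⊤ ∧ ∀ i, LocalStrata f F (hilRel f L F hL hF) (V i) :=
  ⟨S.affineOpens, fun U => U.1, iSup_affineOpens_eq_top S, fun U => localStrata_rel f L F hL hF hA U.2⟩

end Groth.Agent.FlatG
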