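import Groth.Agent.FlatBC5.Basic
import Groth.Agent.GrFlat5.FlatAtIso
import Groth.Agent.QCoh.RpushModel
import Groth.Agent.LimModLib.FlatStage

/-!
# Flatness after base change as a condition on the morphism
-/

set_option autoImplicit false
set_option linter.style.haveILetI false
set_option backward.isDefEq.respectTransparency false
set_option backward.isDefEq.respectTransparency.types false

universe u

open CategoryTheory CategoryTheory.Limits AlgebraicGeometry TopologicalSpace Opposite

namespace Groth.Agent.FlatG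

open Groth.Agent

variable {X S : Scheme.{u}} (f : X ⟶ S) (F : X.Modules)

/-- The module becomes flat after base change along the morphism. -/
def FlatC ⦃T : Scheme.{u}⦄ (φ : T ⟶ S) : Prop :=
  FlatMod.IsFlatOver (pullback.snd f φ) ((Scheme.Modules.pullback (pullback.fst f φ)).obj F)

variable {f F} (hF : Coh.IsQCoh F)

include hF in
theorem flatC_iff_isPullback {X' T : Scheme.{u}} {φ : T ⟶ S} {g' : X' ⟶ X} {u' : X' ⟶ T}
    (hc : IsPullback g' u' f φ) :
    FlatMod.IsFlatOver u' ((Scheme.Modules.pullback g').obj F) ↔ FlatC f F φ := by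
  let e := hc.isoPullback
  constructor
  · intro h
    have h1 : IsPullback e.inv (pullback.snd f φ) u' (𝟙 T) :=
      IsPullback.of_horiz_isIso ⟨by simp [e]⟩
    exact LimModLib.isFlatOver_of_iso _ ((Scheme.Modules.pullbackComp e.inv g').app F ≪≫
      (Scheme.Modules.pullbackCongr (show e.inv ≫ g' = pullback.fst f φ by simp [e])).app F)
      (FlatBC5.isFlatOver_of_baseChange h1 (QCoh.isQCoh_pullback _ hF) h)
  · intro h
    have h1 : IsPullback e.hom u' (pullback.snd f φ) (𝟙 T) :=
      IsPullback.of_horiz_isIso ⟨by simp [e]⟩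
    exact LimModLib.isFlatOver_of_iso _ ((Scheme.Modules.pullbackComp e.hom (pullback.fst f φ)).app F ≪≫
      (Scheme.Modules.pullbackCongr (show e.hom ≫ pullback.fst f φ = g' by simp [e])).app F)
      (FlatBC5.isFlatOver_of_baseChange h1 (QCoh.isQCoh_pullback _ hF) h)

include hF in
theorem flatC_comp {T T' : Scheme.{u}} (a : T' ⟶ T) (φ : T ⟶ S) (h : FlatC f F φ) : FlatC f F (a ≫ φ) := by
  let v : pullback f (a ≫ φ) ⟶ pullback f φ :=
    pullback.lift (pullback.fst f (a ≫ φ)) (pullback.snd f (a ≫ φ) ≫ a)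
      (by rw [Category.assoc, pullback.condition])
  have hv : IsPullback v (pullback.snd f (a ≫ φ)) (pullback.snd f φ) a :=
    IsPullback.of_right (by rw [pullback.lift_fst]; exact IsPullback.of_hasPullback f (a ≫ φ))
      (pullback.lift_snd _ _ _) (IsPullback.of_hasPullback f φ)
  exact LimModLib.isFlatOver_of_iso _ ((Scheme.Modules.pullbackComp v (pullback.fst f φ)).app F ≪≫
      (Scheme.Modules.pullbackCongr (pullback.lift_fst _ _ _)).app F)
    (FlatBC5.isFlatOver_of_baseChange hv (QCoh.isQCoh_pullback _ hF) h)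

include hF in
theorem flatC_of_cover {T : Scheme.{u}} {J : Type*} {Z : J → Scheme.{u}} (j : ∀ i, Z i ⟶ T)
    [∀ i, IsOpenImmersion (j i)] (hc : ∀ x, ∃ i, x ∈ Set.range (j i)) (φ : T ⟶ S)
    (h : ∀ i, FlatC f F (j i ≫ φ)) : FlatC f F φ := by
  intro x
  obtain ⟨i, t, ht⟩ := hc (pullback.snd f φ x)
  have hQ := IsPullback.of_hasPullback (pullback.snd f φ) (j i)
  refine FlatBC5.isFlatOverAt_of_faithful hQ (QCoh.isQCoh_pullback _ hF) x t ht.symm ?_ ?_
  · exact RingHom.Flat.of_bijective (ConcreteCategory.bijective_of_isIso ((j i).stalkMap t))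
  · exact LimModLib.isFlatOver_of_iso _
      ((Scheme.Modules.pullbackComp _ (pullback.fst f φ)).app F).symm
      ((flatC_iff_isPullback hF (hQ.paste_horiz (IsPullback.of_hasPullback f φ))).2 (h i))

include hF in
theorem flatC_base {X₀ S₀ : Scheme.{u}} {j : S₀ ⟶ S} {g : X₀ ⟶ X} {f₀ : X₀ ⟶ S₀} (hc : IsPullback g f₀ f j)
    {T : Scheme.{u}} (v : T ⟶ S₀) :
    FlatC f₀ ((Scheme.Modules.pullback g).obj F) v ↔ FlatC f F (v ≫ j) := by
  rw [← flatC_iff_isPullback hF ((IsPullback.of_hasPullback f₀ v).paste_horiz hc)]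
  exact ⟨LimModLib.isFlatOver_of_iso _ ((Scheme.Modules.pullbackComp _ g).app F),
    LimModLib.isFlatOver_of_iso _ ((Scheme.Modules.pullbackComp _ g).app F).symm⟩

end Groth.Agent.FlatG
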