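import Groth.Agent.FlatG.Fibre
import Groth.Agent.FlatG.FlatC
import Groth.Agent.GrFlat5.FlatPullback
import Groth.Agent.CurveCohLib.Rank
import Mathlib.AlgebraicGeometry.Morphisms.Immersion

/-!
# The flattening strata over an affine base
-/

set_option autoImplicit false
set_option linter.style.haveILetI false
set_option backward.isDefEq.respectTransparency false
set_option backward.isDefEq.respectTransparency.types false

universe u

open CategoryTheory AlgebraicGeometry TopologicalSpace Opposite TensorProduct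

attribute [local instance] HasDerivedCategory.standard

noncomputable section

namespace Groth.Agent.FlatG

open Groth.Agent AmpleVan

attribute [local instance] Pol.secR

/-- The locally closed subscheme of two ideals. -/
theorem exists_immersion {R : Type u} [CommRing R] (a b : Ideal R) :
    ∃ (Z : Scheme.{u}) (z : Z ⟶ Spec (CommRingCat.of R)), IsImmersion z ∧
      ∀ (A : CommRingCat.{u}) (φ : CommRingCat.of R ⟶ A),
        (∃ l, l ≫ z = Spec.map φ) ↔ (a.map φ.hom = ⊥ ∧ b.map φ.hom = ⊤) := by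
  let O : (Spec (CommRingCat.of (R ⧸ a))).Opens :=
    ⟨(PrimeSpectrum.zeroLocus (b.map (Ideal.Quotient.mk a) : Set (R ⧸ a)))ᶜ,
      (PrimeSpectrum.isClosed_zeroLocus _).isOpen_compl⟩
  let i : Spec (CommRingCat.of (R ⧸ a)) ⟶ Spec (CommRingCat.of R) := Spec.map (CommRingCat.ofHom (Ideal.Quotient.mk a))
  haveI : IsClosedImmersion i := IsClosedImmersion.spec_of_surjective _ Ideal.Quotient.mk_surjective
  refine ⟨O, O.ι ≫ i, inferInstance, fun A φ => ⟨?_, ?_⟩⟩
  · rintro ⟨l, hl⟩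
    obtain ⟨ψ, hψ⟩ : ∃ ψ, Spec.map ψ = l ≫ O.ι := ⟨Spec.preimage _, Spec.map_preimage _⟩
    have hφ : CommRingCat.ofHom (Ideal.Quotient.mk a) ≫ ψ = φ := Spec.map_injective (by
      rw [Spec.map_comp, hψ, Category.assoc]; exact hl)
    subst hφ
    refine ⟨?_, ?_⟩
    · rw [CommRingCat.hom_comp, CommRingCat.hom_ofHom, ← Ideal.map_map, Ideal.map_quotient_self, Ideal.map_bot]
    · by_contra hne
      obtain ⟨m, hm, hle⟩ := Ideal.exists_le_maximal _ hne
      rw [CommRingCat.hom_comp, CommRingCat.hom_ofHom, ← Ideal.map_map, Ideal.map_le_iff_le_comap] at hle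
      have hmem : (Spec.map ψ ⟨m, hm.isPrime⟩) ∈ O := by
        rw [hψ]
        exact (l ⟨m, hm.isPrime⟩).2
      exact hmem hle
  · rintro ⟨ha, hb⟩
    let ψ : CommRingCat.of (R ⧸ a) ⟶ A := CommRingCat.ofHom (Ideal.Quotient.lift a φ.hom fun x hx => by
      have := Ideal.mem_map_of_mem φ.hom hx
      rwa [ha] at this)
    have hψ : CommRingCat.ofHom (Ideal.Quotient.mk a) ≫ ψ = φ := CommRingCat.hom_ext (RingHom.ext fun x => rfl)
    have hrange : Set.range (Spec.map ψ) ⊆ Set.range O.ι := by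
      rw [Scheme.Opens.range_ι]
      rintro _ ⟨P, rfl⟩ hP
      have h1 : b.map φ.hom ≤ P.asIdeal := by
        rw [← hψ, CommRingCat.hom_comp, CommRingCat.hom_ofHom, ← Ideal.map_map, Ideal.map_le_iff_le_comap]
        exact hP
      rw [hb] at h1
      exact P.isPrime.ne_top (top_le_iff.1 h1)
    refine ⟨IsOpenImmersion.lift O.ι (Spec.map ψ) hrange, ?_⟩
    rw [IsOpenImmersion.lift_fac_assoc, ← Spec.map_comp, hψ]

/-- Factoring through a monomorphism is local. -/
theorem exists_lift_of_cover {T Z S : Scheme.{u}} (z : Z ⟶ S) [Mono z] (v : T ⟶ S) (𝒰 : Scheme.OpenCover.{u} T)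
    (h : ∀ i, ∃ l, l ≫ z = 𝒰.f i ≫ v) : ∃ l, l ≫ z = v := by
  choose l hl using h
  refine ⟨𝒰.glueMorphisms l fun i j => ?_, 𝒰.hom_ext _ _ fun i => ?_⟩
  · rw [← cancel_mono z, Category.assoc, Category.assoc, hl, hl, Limits.pullback.condition_assoc]
  · rw [Scheme.Cover.ι_glueMorphisms_assoc, hl]

variable {X : Scheme.{u}} {r : ℕ} (P : Pol X r) {R : Type u} [CommRing R] [X.Over (Spec (CommRingCat.of R))]

/-- Sections of a twist on a standard open are flat exactly when those of the module are. -/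
theorem flat_pwE_iff (F : X.Modules) (e : ℕ) (i : Fin r) (A : Type u) [CommRing A] [Algebra R A] :
    Module.Flat A (A ⊗[R] Γ(P.G F e, P.U i)) ↔ Module.Flat A (A ⊗[R] Γ(F, P.U i)) :=
  ⟨fun _ => Module.Flat.of_linearEquiv ((P.pwE R F i e).baseChange R A _ _),
    fun _ => Module.Flat.of_linearEquiv ((P.pwE R F i e).baseChange R A _ _).symm⟩

/-- Flatness after base change to an affine scheme, on the standard opens. -/
theorem flatC_spec_iff {F : X.Modules} (hF : Coh.IsQCoh F) (A : Type u) [CommRing A] [Algebra R A] :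
    FlatC (X ↘ Spec (CommRingCat.of R)) F (Spec.map (CommRingCat.ofHom (algebraMap R A))) ↔
      ∀ i, Module.Flat A (A ⊗[R] Γ(F, P.U i)) := by
  have key : ∀ i, Module.Flat A (A ⊗[R] Γ(F, P.U i)) ↔ _ := fun i =>
    letI : Algebra R Γ(X, P.U i) :=
      ((X.presheaf.map (homOfLE (le_top : P.U i ≤ ⊤)).op).hom.comp (Coh.toGlobal (X ↘ Spec (CommRingCat.of R)))).toAlgebra
    haveI : IsScalarTower R Γ(X, P.U i) Γ(F, P.U i) := .of_algebraMap_smul fun _ _ => rfl
    GrFlat5.flat_pullback_spec_iff (A' := A) (X ↘ Spec (CommRingCat.of R)) hF (P.affine i) rfl _ rfl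
  refine ⟨fun h i => (key i).2 fun x _ => h x, fun h x => ?_⟩
  obtain ⟨i, hi⟩ := P.cover (Limits.pullback.fst (X ↘ Spec (CommRingCat.of R))
    (Spec.map (CommRingCat.ofHom (algebraMap R A))) x)
  exact (key i).1 (h i) x hi

variable [IsNoetherianRing R] [IsProper (X ↘ Spec (CommRingCat.of R))]

omit [IsNoetherianRing R] [IsProper (X ↘ Spec (CommRingCat.of R))] in
/-- The dimensions of the pieces over a field. -/
theorem finrank_field (S : Sys R r) {K : Type u} [Field K] [Algebra R K] (d : ℕ) :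
    Module.finrank K (K ⊗[R] S.E d) = S.hdim ((⊥ : PrimeSpectrum K).comap (algebraMap R K)) d := by
  rw [← S.hdim_comap (⊥ : PrimeSpectrum K) d]
  exact (Module.finrank_baseChange (R := (⊥ : PrimeSpectrum K).asIdeal.ResidueField) (S := K) (M' := K ⊗[R] S.E d)).symm

omit [IsNoetherianRing R] [IsProper (X ↘ Spec (CommRingCat.of R))] in
theorem injective_psi_field {S : Sys R r} (B : Bound S) {K : Type u} [Field K] [Algebra R K] {d : ℕ} (hd : B.N ≤ d) :
    Function.Injective ((S.bc K).psi d) := by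
  let q := (⊥ : PrimeSpectrum K).comap (algebraMap R K)
  letI : Algebra q.asIdeal.ResidueField K :=
    (Ideal.ResidueField.lift q.asIdeal (algebraMap R K)
      (fun x hx => RingHom.mem_ker.2 (Ideal.mem_bot.1 hx))
      (fun x hx => isUnit_iff_ne_zero.2 fun h => hx (Ideal.mem_bot.2 h))).toAlgebra
  haveI : IsScalarTower R q.asIdeal.ResidueField K := IsScalarTower.of_algebraMap_eq fun x => by
    rw [RingHom.algebraMap_toAlgebra, Ideal.ResidueField.lift_algebraMap]
  rw [Sys.injective_psi_bc_iff]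
  refine injective_baseChange_tower (A := q.asIdeal.ResidueField) (S.psi d) ?_
  exact Module.Flat.lTensor_preserves_injective_linearMap _ ((S.injective_psi_bc_iff _ d).1 (B.inj q d hd))

/-- The Hilbert functions of the fibres, in high degrees, and their flattening strata. -/
theorem exists_hilb_strata {F : X.Modules} (hF : Coh.IsCoh F) :
    ∃ (hp : PrimeSpectrum R → ℕ → ℕ) (c : ℕ),
      (∀ (K : Type u) [Field K] [Algebra R K] (Y : Scheme.{u}) [Y.Over (Spec (CommRingCat.of K))]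
        (v : Y ⟶ X) [IsAffineHom v], IsPullback v (Y ↘ Spec (CommRingCat.of K))
          (X ↘ Spec (CommRingCat.of R)) (Spec.map (CommRingCat.ofHom (algebraMap R K))) →
        ∃ M, ∀ d, M ≤ d → (hp ((⊥ : PrimeSpectrum K).comap (algebraMap R K)) d : ℤ) = Curv2.euler K Y
          ((P.pull v).G ((Scheme.Modules.pullback v).obj F) (c + d))) ∧
      (∃ Q : Finset (PrimeSpectrum R), ∀ q, ∃ q₀ ∈ Q, hp q = hp q₀) ∧
      (∀ h : ℕ → ℕ, IsClosed {q | ∀ d, h d ≤ hp q d}) ∧
      (∀ q q', (∃ M, ∀ d, M ≤ d → hp q d = hp q' d) → hp q = hp q') ∧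
      (∀ ⦃T : Scheme.{u}⦄ (v : T ⟶ Spec (CommRingCat.of R)), FlatC (X ↘ Spec (CommRingCat.of R)) F v →
        IsLocallyConstant fun t => hp (v t)) ∧
      ∀ h : ℕ → ℕ, ∃ (Z : Scheme.{u}) (z : Z ⟶ Spec (CommRingCat.of R)), IsImmersion z ∧
        ∀ ⦃T : Scheme.{u}⦄ (v : T ⟶ Spec (CommRingCat.of R)), (∃ l, l ≫ z = v) ↔
          (FlatC (X ↘ Spec (CommRingCat.of R)) F v ∧ ∀ t : T, hp (v t) = h) := by
  haveI := FlatG.isNoetherian (X := X) R
  obtain ⟨e, he⟩ := exists_genZero P R hF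
  have g := he e le_rfl
  let F₁ := P.G F e
  have hF₁ : Coh.IsCoh F₁ := isCoh_itw P.inv hF e
  let S := P.sys R F₁ g
  let col := P.col R F₁ g hF₁.1
  obtain ⟨B⟩ := exists_bound S
  let hp : PrimeSpectrum R → ℕ → ℕ := fun q d => S.hdim q (B.N + d)
  refine ⟨hp, e + B.N, fun K _ _ Y _ v _ hv => ?_, ⟨B.Q, fun q => ?_⟩, fun h => ?_, fun q q' hqq' => ?_,
    fun T v hfl => ?_, fun h => ?_⟩
  · obtain ⟨M, hM⟩ := P.exists_finrank_eq v F₁ g hv hF₁ (fun d hd => injective_psi_field B hd)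
    refine ⟨M, fun d hd => ((congrArg Nat.cast (finrank_field S (B.N + d))).symm.trans
      (hM (B.N + d) (hd.trans (Nat.le_add_left _ _)))).trans ?_⟩
    rw [Nat.add_assoc]
    exact CurveCohLib.euler_congr
      ((itw (P.pull v).L (B.N + d)).mapIso (P.pullG v F e) ≪≫ shiftIso (P.pull v) _ e (B.N + d))
  · obtain ⟨q₀, hq₀, h₀⟩ := B.rep q
    exact ⟨q₀, hq₀, funext fun d => h₀ _⟩
  · have hset : {q | ∀ d, h d ≤ hp q d} = PrimeSpectrum.zeroLocus (B.aI fun d => h (d - B.N) : Set R) := by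
      rw [B.zeroLocus_aI]
      ext q
      refine ⟨fun H d hd => ?_, fun H d => ?_⟩
      · refine (H (d - B.N)).trans (le_of_eq ?_)
        show S.hdim q _ = _
        rw [Nat.add_sub_cancel' hd]
      · have := H (B.N + d) (Nat.le_add_right _ _)
        rwa [Nat.add_sub_cancel_left] at this
    rw [hset]
    exact PrimeSpectrum.isClosed_zeroLocus _
  · obtain ⟨M, hM⟩ := hqq'
    refine funext fun d => B.sep q q' ⟨B.N + M, fun d hd => ?_⟩ _ (Nat.le_add_right _ _)
    have := hM (d - B.N) (by omega)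
    simp only [hp, Nat.add_sub_cancel' (show B.N ≤ d by omega)] at this
    exact this
  · classical
    have hcl : ∀ d, IsLocallyConstant fun t => hp (v t) d := fun d => by
      rw [IsLocallyConstant.iff_exists_open]
      intro t
      obtain ⟨U, hU, hx, -⟩ := exists_isAffineOpen_mem_and_subset (x := t) (U := ⊤) trivial
      obtain ⟨φ, hφ⟩ : ∃ φ, Spec.map φ = hU.fromSpec ≫ v := ⟨Spec.preimage _, Spec.map_preimage _⟩
      algebraize [φ.hom]
      haveI := S.finite_E (B.N + d)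
      haveI : Module.FinitePresentation R (S.E (B.N + d)) := Module.finitePresentation_of_finite R _
      have h1 : FlatC (X ↘ Spec (CommRingCat.of R)) F (Spec.map φ) := hφ ▸ flatC_comp hF.1 _ v hfl
      rw [show φ = CommRingCat.ofHom (algebraMap R Γ(T, U)) from rfl, flatC_spec_iff P hF.1] at h1
      haveI : Module.Flat Γ(T, U) (Γ(T, U) ⊗[R] S.E (B.N + d)) :=
        (col.flat_iff B Γ(T, U)).1 (fun i => (flat_pwE_iff P F e i _).2 (h1 i)) _ (Nat.le_add_right _ _)
      have hp' : ∀ p : PrimeSpectrum Γ(T, U),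
          Module.rankAtStalk (Γ(T, U) ⊗[R] S.E (B.N + d)) p = hp (v (hU.fromSpec p)) d := fun p => by
        rw [Module.rankAtStalk_eq, ← Scheme.Hom.comp_apply, ← hφ, ← CommRingCat.ofHom_hom φ]
        exact S.hdim_comap p _
      obtain ⟨p, rfl⟩ : t ∈ Set.range hU.fromSpec := by rw [hU.range_fromSpec]; exact hx
      obtain ⟨O, hO, hpO, hOc⟩ := (IsLocallyConstant.iff_exists_open _).1
        (Module.isLocallyConstant_rankAtStalk (R := Γ(T, U)) (M := Γ(T, U) ⊗[R] S.E (B.N + d))) p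
      refine ⟨hU.fromSpec '' O, hU.fromSpec.isOpenEmbedding.isOpenMap _ hO, ⟨p, hpO, rfl⟩, ?_⟩
      rintro _ ⟨p', hp'O, rfl⟩
      rw [← hp', ← hp']
      exact hOc p' hp'O
    have hfin : ∃ D : Finset ℕ, ∀ q q', (∀ d ∈ D, hp q d = hp q' d) → hp q = hp q' := by
      have hsep : ∀ x : PrimeSpectrum R × PrimeSpectrum R, ∃ d, (hp x.1 d = hp x.2 d → hp x.1 = hp x.2) := fun x => by
        by_cases hx : hp x.1 = hp x.2
        · exact ⟨0, fun _ => hx⟩
        · obtain ⟨d, hd⟩ := Function.ne_iff.1 hx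
          exact ⟨d, fun h => absurd h hd⟩
      choose dd hdd using hsep
      refine ⟨(B.Q ×ˢ B.Q).image dd, fun q q' hq => ?_⟩
      obtain ⟨q₀, hq₀, h₀⟩ := B.rep q
      obtain ⟨q₁, hq₁, h₁⟩ := B.rep q'
      have e0 : hp q = hp q₀ := funext fun d => h₀ _
      have e1 : hp q' = hp q₁ := funext fun d => h₁ _
      rw [e0, e1]
      refine hdd (q₀, q₁) ?_
      have := hq _ (Finset.mem_image_of_mem dd (show (q₀, q₁) ∈ B.Q ×ˢ B.Q from Finset.mem_product.2 ⟨hq₀, hq₁⟩))
      rw [e0, e1] at this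
      exact this
    obtain ⟨D, hD⟩ := hfin
    rw [IsLocallyConstant.iff_exists_open]
    intro t
    refine ⟨⋂ d ∈ D, {t' | hp (v t') d = hp (v t) d}, isOpen_biInter_finset fun d _ => (hcl d).isOpen_fiber _, by simp,
      fun t' ht' => hD _ _ fun d hd => Set.mem_iInter₂.1 ht' d hd⟩
  · obtain ⟨b, hb⟩ := B.exists_stratum col fun d => h (d - B.N)
    obtain ⟨Z, z, hz, hzu⟩ := exists_immersion (B.aI fun d => h (d - B.N)) b
    haveI := hz
    have haff : ∀ (A : CommRingCat.{u}) (φ : CommRingCat.of R ⟶ A), (∃ l, l ≫ z = Spec.map φ) ↔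
        (FlatC (X ↘ Spec (CommRingCat.of R)) F (Spec.map φ) ∧ ∀ t, hp (Spec.map φ t) = h) := by
      intro A φ
      algebraize [φ.hom]
      rw [hzu, show φ = CommRingCat.ofHom (algebraMap R A) from rfl, flatC_spec_iff P hF.1 A, CommRingCat.hom_ofHom,
        ← hb A]
      refine and_congr (forall_congr' fun i => flat_pwE_iff P F e i A) ⟨fun H t => funext fun d => ?_, fun H t d hd => ?_⟩
      · have := H t (B.N + d) (Nat.le_add_right _ _)
        rwa [Nat.add_sub_cancel_left] at this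
      · have := congrFun (H t) (d - B.N)
        simp only [hp, Nat.add_sub_cancel' hd] at this
        exact this
    refine ⟨Z, z, hz, fun T v => ⟨fun ⟨l, hl⟩ => ?_, fun ⟨hfl, ht⟩ => ?_⟩⟩
    · have key : ∀ (U : T.affineOpens), FlatC (X ↘ Spec (CommRingCat.of R)) F (U.2.fromSpec ≫ v) ∧
          ∀ t, hp ((U.2.fromSpec ≫ v) t) = h := fun U => by
        obtain ⟨φ, hφ⟩ : ∃ φ, Spec.map φ = U.2.fromSpec ≫ v := ⟨Spec.preimage _, Spec.map_preimage _⟩
        rw [← hφ]
        exact (haff _ φ).1 ⟨U.2.fromSpec ≫ l, by rw [hφ, Category.assoc, hl]⟩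
      refine ⟨flatC_of_cover hF.1 (fun U : T.affineOpens => U.2.fromSpec) (fun x => ?_) v fun U => (key U).1, fun t => ?_⟩
      · obtain ⟨U, hU, hx, -⟩ := exists_isAffineOpen_mem_and_subset (x := x) (U := ⊤) trivial
        exact ⟨⟨U, hU⟩, by rw [hU.range_fromSpec]; exact hx⟩
      · obtain ⟨U, hU, hx, -⟩ := exists_isAffineOpen_mem_and_subset (x := t) (U := ⊤) trivial
        obtain ⟨p, rfl⟩ : t ∈ Set.range hU.fromSpec := by rw [hU.range_fromSpec]; exact hx
        exact (key ⟨U, hU⟩).2 p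
    · refine exists_lift_of_cover z v T.affineCover fun i => ?_
      obtain ⟨φ, hφ⟩ : ∃ φ, Spec.map φ = T.affineCover.f i ≫ v := ⟨Spec.preimage _, Spec.map_preimage _⟩
      rw [← hφ]
      exact (haff _ φ).2 ⟨hφ ▸ flatC_comp hF.1 _ v hfl, fun t => by rw [hφ]; exact ht _⟩

end Groth.Agent.FlatG
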