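import Mathlib.RingTheory.Flat.EquationalCriterion
import Mathlib.RingTheory.LocalRing.Module
import Mathlib.RingTheory.Flat.Localization
import Mathlib.RingTheory.Localization.AtPrime.Basic
import Mathlib.Algebra.Colimit.TensorProduct

/-!
# A finite module mapping into a flat one, injectively on all residue fields, is flat
-/

set_option autoImplicit false
set_option linter.style.haveILetI false

universe u

open TensorProduct

namespace Groth.Agent.FlatG

/-- A map from a finite free module into a flat module which is injective modulo the maximal ideal is injective. -/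
theorem injective_of_flat {B : Type u} [CommRing B] [IsLocalRing B] {F C : Type u} [AddCommGroup F] [Module B F]
    [Module.Free B F] [Module.Finite B F] [AddCommGroup C] [Module B C] [Module.Flat B C] (h : F →ₗ[B] C)
    (hk : Function.Injective (h.lTensor (IsLocalRing.ResidueField B))) : Function.Injective h := by
  rw [injective_iff_map_eq_zero]
  intro x hx
  let f : B →ₗ[B] F := LinearMap.toSpanSingleton B F x
  have hf : h ∘ₗ f = 0 := LinearMap.ext_ring (by simpa [f] using hx)
  obtain ⟨k, a, y, hay, haf⟩ := Module.Flat.exists_factorization_of_comp_eq_zero_of_free hf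
  have hinj : Function.Injective (a.lTensor (IsLocalRing.ResidueField B)) := by
    rw [hay, LinearMap.lTensor_comp] at hk
    exact Function.Injective.of_comp hk
  obtain ⟨b, hb⟩ := (IsLocalRing.split_injective_iff_lTensor_residueField_injective a).2 hinj
  have h1 : a x = 0 := by simpa [f] using LinearMap.congr_fun haf (1 : B)
  have h2 := congrArg b h1
  rw [map_zero] at h2
  exact (LinearMap.congr_fun hb x).symm.trans h2

/-- Local form of the criterion. -/
theorem free_of_injective {B : Type u} [CommRing B] [IsLocalRing B] {M C : Type u} [AddCommGroup M] [Module B M]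
    [Module.Finite B M] [AddCommGroup C] [Module B C] [Module.Flat B C] (g : M →ₗ[B] C)
    (hk : Function.Injective (g.lTensor (IsLocalRing.ResidueField B))) : Module.Free B M := by
  let k := IsLocalRing.ResidueField B
  obtain ⟨φ, hφ⟩ : ∃ φ : (Fin (Module.finrank k (k ⊗[B] M)) → B) →ₗ[B] M,
      Function.Bijective (φ.lTensor k) ∧ Function.Surjective φ := by
    let b := Module.finBasis k (k ⊗[B] M)
    have hsurj : Function.Surjective (TensorProduct.mk B k M 1) := fun z => by
      induction z using TensorProduct.induction_on with
      | zero => exact ⟨0, map_zero _⟩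
      | add a c ha hc =>
        obtain ⟨a', rfl⟩ := ha
        obtain ⟨c', rfl⟩ := hc
        exact ⟨a' + c', map_add _ _ _⟩
      | tmul a m =>
        obtain ⟨a, rfl⟩ := IsLocalRing.residue_surjective a
        refine ⟨a • m, ?_⟩
        show (1 : k) ⊗ₜ[B] (a • m) = _
        rw [TensorProduct.tmul_smul, TensorProduct.smul_tmul', Algebra.smul_def, mul_one]
        rfl
    choose m hm using fun i => hsurj (b i)
    have hspan := IsLocalRing.span_eq_top_of_tmul_eq_basis m b hm
    let φ : (Fin (Module.finrank k (k ⊗[B] M)) → B) →ₗ[B] M := Fintype.linearCombination B m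
    refine ⟨φ, ?_, LinearMap.range_eq_top.1 ((Fintype.range_linearCombination B m).trans hspan)⟩
    let e := (TensorProduct.piScalarRight B k k (Fin (Module.finrank k (k ⊗[B] M)))).trans b.equivFun.symm
    have he : φ.baseChange k = e.toLinearMap := by
      refine AlgebraTensorModule.curry_injective (LinearMap.ext_ring (LinearMap.pi_ext fun i c => ?_))
      simp only [AlgebraTensorModule.curry_apply, LinearMap.restrictScalars_self, TensorProduct.curry_apply,
        LinearMap.coe_restrictScalars, LinearMap.baseChange_tmul, e, LinearEquiv.coe_coe, LinearEquiv.trans_apply,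
        TensorProduct.piScalarRight_apply, TensorProduct.piScalarRightHom_tmul, φ,
        Fintype.linearCombination_apply, Module.Basis.equivFun_symm_apply]
      rw [TensorProduct.tmul_sum]
      refine Finset.sum_congr rfl fun j _ => ?_
      rw [← hm j, TensorProduct.tmul_smul]
      show _ = ((Pi.single i c : _ → B) j • (1 : k)) • ((1 : k) ⊗ₜ[B] m j)
      rw [smul_assoc, one_smul]
    rw [show ⇑(φ.lTensor k) = ⇑(φ.baseChange k) from (LinearMap.baseChange_eq_ltensor (f := φ)).symm, he]
    exact e.bijective
  obtain ⟨hφ, hsur⟩ := hφ
  have hinj : Function.Injective φ := by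
    have h1 : Function.Injective ((g ∘ₗ φ).lTensor k) := by
      rw [LinearMap.lTensor_comp]
      exact hk.comp hφ.1
    exact Function.Injective.of_comp (f := g) (injective_of_flat (g ∘ₗ φ) h1)
  exact Module.Free.of_equiv (LinearEquiv.ofBijective φ ⟨hinj, hsur⟩)

/-- A finite module with a map into a flat module which is injective on all residue fields is flat. -/
theorem flat_of_injective_residue {B : Type u} [CommRing B] {M C : Type u} [AddCommGroup M] [Module B M]
    [Module.Finite B M] [AddCommGroup C] [Module B C] [Module.Flat B C] (g : M →ₗ[B] C)
    (hk : ∀ P : PrimeSpectrum B, Function.Injective (g.lTensor P.asIdeal.ResidueField)) : Module.Flat B M := by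
  refine Module.flat_of_localized_maximal M fun P hP => ?_
  haveI := hP
  haveI hPp : P.IsPrime := hP.isPrime
  let BP := Localization.AtPrime P
  haveI : Module.Flat BP (BP ⊗[B] C) := inferInstance
  haveI : Module.Finite BP (BP ⊗[B] M) := inferInstance
  have hinj : Function.Injective ((g.baseChange BP).lTensor (IsLocalRing.ResidueField BP)) := by
    intro x y hxy
    let eM := AlgebraTensorModule.cancelBaseChange B BP BP (IsLocalRing.ResidueField BP) M
    let eC := AlgebraTensorModule.cancelBaseChange B BP BP (IsLocalRing.ResidueField BP) C
    have hcomm : ∀ z, eC ((g.baseChange BP).lTensor (IsLocalRing.ResidueField BP) z) =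
        g.lTensor (IsLocalRing.ResidueField BP) (eM z) := fun z => by
      induction z using TensorProduct.induction_on with
      | zero => simp only [map_zero]
      | add a c ha hc => simp only [map_add, ha, hc]
      | tmul a w =>
        induction w using TensorProduct.induction_on with
        | zero => simp only [TensorProduct.tmul_zero, map_zero]
        | add w w' hw hw' => simp only [TensorProduct.tmul_add, map_add, hw, hw']
        | tmul b m => simp [eM, eC]
    have h2 := congrArg eC hxy
    rw [hcomm, hcomm] at h2
    exact eM.injective (hk ⟨P, hPp⟩ h2)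
  haveI : Module.Free BP (BP ⊗[B] M) := free_of_injective (g.baseChange BP) hinj
  haveI : Module.Flat B (BP ⊗[B] M) := Module.Flat.trans B BP _
  exact Module.Flat.of_linearEquiv
    (IsLocalizedModule.iso P.primeCompl (TensorProduct.mk B BP M 1))

/-- An element of a tensor product which dies in `B ⊗ P` dies in the tensor product with a finitely generated submodule. -/
theorem exists_fg_lTensor_eq_zero {R : Type u} [CommRing R] {B P : Type u} [AddCommGroup B] [Module R B]
    [AddCommGroup P] [Module R P] {N : Submodule R P} (hN : N.FG) {x : B ⊗[R] N}
    (hx : N.subtype.lTensor B x = 0) :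
    ∃ (N' : Submodule R P) (h : N ≤ N'), N'.FG ∧ (Submodule.inclusion h).lTensor B x = 0 := by
  have h0 : N.subtype.rTensor B (TensorProduct.comm R B N x) = N.subtype.rTensor B 0 := by
    rw [map_zero, ← LinearMap.comm_comp_lTensor_comp_comm_eq]
    simpa using hx
  obtain ⟨N', hN', hle, h⟩ := hN.exists_rTensor_fg_inclusion_eq h0
  refine ⟨N', hle, hN', ?_⟩
  rw [map_zero, ← LinearMap.comm_comp_lTensor_comp_comm_eq] at h
  simpa using h

end Groth.Agent.FlatG
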