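import Groth.Agent.KFlatLib.Scheme.PullTensorCx
import Groth.Agent.AmpleVan.Iter
import Groth.Agent.InvX.GenLocusPull

/-!
# Pulling back twists and multiplication by sections
-/

set_option autoImplicit false
set_option linter.style.haveILetI false
set_option backward.isDefEq.respectTransparency false
set_option backward.isDefEq.respectTransparency.types false

universe u

open CategoryTheory AlgebraicGeometry TopologicalSpace Opposite MonoidalCategory

attribute [local instance] HasDerivedCategory.standard

noncomputable section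

namespace Groth.Agent.FlatG

open Groth.Agent InvX AmpleVan

variable {X Y : Scheme.{u}} (v : Y ⟶ X) (L : X.Modules)

/-- `v^*(G ⊗ L) ≅ v^*G ⊗ v^*L`, natural in `G`. -/
def twPull : tw L ⋙ Scheme.Modules.pullback v ≅
    Scheme.Modules.pullback v ⋙ tw ((Scheme.Modules.pullback v).obj L) :=
  NatIso.ofComponents (fun G => ((KFlatLib.pullTensorBiIso v).app G).app L) fun {G G'} φ =>
    congr_app ((KFlatLib.pullTensorBiIso v).hom.naturality φ) L

variable {L}

theorem twPull_tmul {G : X.Modules} {U : X.Opens} (a : Γ(G, U)) (b : Γ(L, U)) :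
    ((twPull v L).hom.app G).app (v ⁻¹ᵁ U) (pullElt v (tmul a b)) = tmul (pullElt v a) (pullElt v b) :=
  KFlatLib.pullTensorHom_pb v G L a b

theorem twPull_mulSec (σ : Γ(L, ⊤)) (G : X.Modules) :
    (Scheme.Modules.pullback v).map (mulSec σ G) ≫ (twPull v L).hom.app G =
      mulSec (show Γ((Scheme.Modules.pullback v).obj L, ⊤) from pullElt v (U := ⊤) σ)
        ((Scheme.Modules.pullback v).obj G) := by
  apply ((Scheme.Modules.pullbackPushforwardAdjunction v).homEquiv _ _).injective
  refine QCoh.hom_ext_app fun U t => ?_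
  rw [Adjunction.homEquiv_unit, Adjunction.homEquiv_unit]
  show ((twPull v L).hom.app G).app (v ⁻¹ᵁ U)
      (((Scheme.Modules.pullback v).map (mulSec σ G)).app (v ⁻¹ᵁ U) (pullElt v t)) =
    (mulSec _ ((Scheme.Modules.pullback v).obj G)).app (v ⁻¹ᵁ U) (pullElt v t)
  rw [map_pullElt]
  show ((twPull v L).hom.app G).app (v ⁻¹ᵁ U) (pullElt v (tmul t (AModX.res L (le_top : U ≤ ⊤) σ))) = _
  rw [twPull_tmul, mulSec_app, ← res_pullElt v (le_top : U ≤ ⊤) σ]
  rfl

end Groth.Agent.FlatG
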