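import Groth.Agent.FlatG.Gamma
import Groth.Agent.FlatG.PullTw
import Groth.Agent.QCoh.FlatBC
import Groth.Agent.AmpleX.Locus
import Groth.Agent.PicClLib.Basic
import Groth.Agent.H23.TrivBasic
import Groth.Agent.ZClosLib.CohDescent

/-!
# The graded module of a fibre
-/

set_option autoImplicit false
set_option linter.style.haveILetI false
set_option backward.isDefEq.respectTransparency false
set_option backward.isDefEq.respectTransparency.types false

universe u

open CategoryTheory AlgebraicGeometry TopologicalSpace Opposite TensorProduct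

attribute [local instance] HasDerivedCategory.standard

noncomputable section

namespace Groth.Agent.FlatG

open Groth.Agent AmpleVan

attribute [local instance] Pol.secR

variable {X Y : Scheme.{u}} {r : ℕ} (P : Pol X r) (v : Y ⟶ X) [IsAffineHom v]

namespace Pol

theorem genLocus_pullSect (i : Fin r) :
    CohB1.genLocus ((Scheme.Modules.pullback v).obj P.L)
      (InvX.ofSect (show Γ((Scheme.Modules.pullback v).obj P.L, ⊤) from InvX.pullElt v (U := ⊤) (P.σ i))) =
      v ⁻¹ᵁ P.U i := by
  rw [AmpleX.genLocus_eq_locus, InvX.one_ofSect, AmpleX.locus_pullElt P.inv]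
  exact congrArg (v ⁻¹ᵁ ·) (AmpleX.genLocus_eq_locus (P.s i)).symm

/-- The pulled back polarisation. -/
def pull : Pol Y r where
  L := (Scheme.Modules.pullback v).obj P.L
  inv := PicClLib.isInvertible_pullback v P.inv
  s i := InvX.ofSect (show Γ((Scheme.Modules.pullback v).obj P.L, ⊤) from InvX.pullElt v (U := ⊤) (P.σ i))
  affine i := by rw [P.genLocus_pullSect]; exact (P.affine i).preimage v
  cover y := by
    obtain ⟨i, hi⟩ := P.cover (v y)
    refine ⟨i, ?_⟩
    rw [P.genLocus_pullSect]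
    exact hi

theorem pull_U (i : Fin r) : (P.pull v).U i = v ⁻¹ᵁ P.U i := P.genLocus_pullSect v i

theorem pull_σ (i : Fin r) : (P.pull v).σ i = InvX.pullElt v (U := ⊤) (P.σ i) := InvX.one_ofSect _

variable (F : X.Modules)

/-- Pullback of the twists. -/
def pullG : ∀ d, (Scheme.Modules.pullback v).obj (P.G F d) ≅ (P.pull v).G ((Scheme.Modules.pullback v).obj F) d
  | 0 => Iso.refl _
  | d + 1 => (twPull v P.L).app (P.G F d) ≪≫ (tw (P.pull v).L).mapIso (pullG d)

theorem pullG_m (i : Fin r) (d : ℕ) :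
    (Scheme.Modules.pullback v).map (P.m F i d) ≫ (P.pullG v F (d + 1)).hom =
      (P.pullG v F d).hom ≫ (P.pull v).m ((Scheme.Modules.pullback v).obj F) i d := by
  show (Scheme.Modules.pullback v).map (mulSec (P.σ i) (P.G F d)) ≫
    (twPull v P.L).hom.app (P.G F d) ≫ (tw (P.pull v).L).map (P.pullG v F d).hom =
    (P.pullG v F d).hom ≫ mulSec ((P.pull v).σ i) _
  rw [← Category.assoc, twPull_mulSec, P.pull_σ]
  exact (mulSec_naturality _ _).symm

/-- The pullback of a section of a twist. -/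
def pullSec (d : ℕ) {U : X.Opens} (x : Γ(P.G F d, U)) :
    Γ((P.pull v).G ((Scheme.Modules.pullback v).obj F) d, v ⁻¹ᵁ U) :=
  (P.pullG v F d).hom.app (v ⁻¹ᵁ U) (InvX.pullElt v x)

theorem pullSec_m (i : Fin r) (d : ℕ) {U : X.Opens} (x : Γ(P.G F d, U)) :
    P.pullSec v F (d + 1) ((P.m F i d).app U x) =
      ((P.pull v).m ((Scheme.Modules.pullback v).obj F) i d).app (v ⁻¹ᵁ U) (P.pullSec v F d x) := by
  refine (congrArg ((P.pullG v F (d + 1)).hom.app (v ⁻¹ᵁ U)) (InvX.map_pullElt v (P.m F i d) x).symm).trans ?_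
  exact (congr(($(P.pullG_m v F i d)).app (v ⁻¹ᵁ U) (InvX.pullElt v x)) : _)

theorem res_pullSec (d : ℕ) {U V : X.Opens} (h : V ≤ U) (x : Γ(P.G F d, U)) :
    AModX.res _ (v.preimage_mono h) (P.pullSec v F d x) = P.pullSec v F d (AModX.res (P.G F d) h x) := by
  refine (AModX.app_res (P.pullG v F d).hom (v.preimage_mono h) _).symm.trans ?_
  exact congrArg ((P.pullG v F d).hom.app (v ⁻¹ᵁ V)) (InvX.res_pullElt v h x)

variable {R K : Type u} [CommRing R] [CommRing K] [Algebra R K] [X.Over (Spec (CommRingCat.of R))]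
  [Y.Over (Spec (CommRingCat.of K))]
  (hv : IsPullback v (Y ↘ Spec (CommRingCat.of K)) (X ↘ Spec (CommRingCat.of R))
    (Spec.map (CommRingCat.ofHom (algebraMap R K))))

theorem pwE_pullSec (i : Fin r) {t : Γ(F, P.U i)} : ∀ d : ℕ,
    (P.pull v).pwE K ((Scheme.Modules.pullback v).obj F) i d
        (AModX.res _ (P.pull_U v i).le (InvX.pullElt v t)) =
      AModX.res _ (P.pull_U v i).le (P.pullSec v F d (P.pwE R F i d t))
  | 0 => rfl
  | d + 1 => by
    rw [Pol.pwE_succ, Pol.pwE_succ, pwE_pullSec i d, P.pullSec_m, AModX.app_res]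

/-- The base change of sections. -/
def bcMap (M : X.Modules) (V : X.Opens) (W : Y.Opens) (h : W ≤ v ⁻¹ᵁ V) :
    K ⊗[R] Γ(M, V) →ₗ[K] Γ((Scheme.Modules.pullback v).obj M, W) :=
  letI := QCoh.secModule ((Coh.toGlobal (Y ↘ Spec (CommRingCat.of K))).comp (algebraMap R K))
    ((Scheme.Modules.pullback v).obj M) W
  haveI : IsScalarTower R K Γ((Scheme.Modules.pullback v).obj M, W) := .of_algebraMap_smul fun _ _ => rfl
  LinearMap.liftBaseChange K (QCoh.secLin (Coh.toGlobal (X ↘ Spec (CommRingCat.of R)))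
    (Coh.toGlobal (Y ↘ Spec (CommRingCat.of K))) v ((Scheme.Modules.pullbackPushforwardAdjunction v).unit.app M)
    (QCoh.toGlobal_comm _ _ v hv.w) V W h)

omit [IsAffineHom v] in
theorem bcMap_tmul (M : X.Modules) (V : X.Opens) (W : Y.Opens) (h : W ≤ v ⁻¹ᵁ V) (c : K) (x : Γ(M, V)) :
    bcMap v hv M V W h (c ⊗ₜ x) = c • AModX.res _ h (InvX.pullElt v x) :=
  letI := QCoh.secModule ((Coh.toGlobal (Y ↘ Spec (CommRingCat.of K))).comp (algebraMap R K))
    ((Scheme.Modules.pullback v).obj M) W
  haveI : IsScalarTower R K Γ((Scheme.Modules.pullback v).obj M, W) := .of_algebraMap_smul fun _ _ => rfl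
  LinearMap.liftBaseChange_tmul _ _ _ _

omit [IsAffineHom v] in
theorem bijective_res_of_eq {M : Y.Modules} {U V : Y.Opens} (h : V = U) :
    Function.Bijective (AModX.res M h.le) := by
  subst h
  exact Function.bijective_iff_has_inverse.2 ⟨id, fun x => AModX.res_self x, fun x => AModX.res_self x⟩

include hv in
omit [IsAffineHom v] in
theorem bijective_bcMap {M : X.Modules} (hM : Coh.IsQCoh M) {V : X.Opens} (hV : IsAffineOpen V) {W : Y.Opens}
    (h : W = v ⁻¹ᵁ V) : Function.Bijective (bcMap v hv M V W h.le) := by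
  subst h
  have hb := QCoh.isAffineBC_of_isPullback hv hM V hV
  letI := QCoh.secModule ((Coh.toGlobal (Y ↘ Spec (CommRingCat.of K))).comp (algebraMap R K))
    ((Scheme.Modules.pullback v).obj M) (v ⁻¹ᵁ V)
  haveI : IsScalarTower R K Γ((Scheme.Modules.pullback v).obj M, v ⁻¹ᵁ V) := .of_algebraMap_smul fun _ _ => rfl
  have e : (bcMap v hv M V (v ⁻¹ᵁ V) le_rfl : _ → _) = hb.equiv := funext fun z => by
    induction z using TensorProduct.induction_on with
    | zero => rw [map_zero, map_zero]
    | tmul c x =>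
      rw [bcMap_tmul]
      exact (IsBaseChange.equiv_tmul hb c x).symm
    | add a b ha hb' => rw [map_add, map_add, ha, hb']
  rw [show (bcMap v hv M V (v ⁻¹ᵁ V) (le_refl _) : _ → _) = _ from e]
  exact hb.equiv.bijective

/-- The comparison on a standard open. -/
def θU (i : Fin r) :
    K ⊗[R] Γ(F, P.U i) →ₗ[K] Γ((Scheme.Modules.pullback v).obj F, (P.pull v).U i) :=
  bcMap v hv F (P.U i) ((P.pull v).U i) (P.pull_U v i).le

variable (g : P.GenZero R F)

/-- The comparison of global sections. -/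
def θ (d : ℕ) : K ⊗[R] (P.sys R F g).E d →ₗ[K] Γ((P.pull v).G ((Scheme.Modules.pullback v).obj F) d, ⊤) :=
  ((Pol.appR K (P.pullG v F d).hom ⊤).comp (bcMap v hv (P.G F d) ⊤ ⊤ le_rfl)).comp
    ((P.valR R F g d).baseChange K)

theorem θ_tmul (d : ℕ) (c : K) (x : (P.sys R F g).E d) :
    P.θ v F hv g d (c ⊗ₜ x) = c • P.pullSec v F d (P.valR R F g d x) := by
  show Pol.appR K (P.pullG v F d).hom ⊤ (bcMap v hv (P.G F d) ⊤ ⊤ le_rfl ((P.valR R F g d).baseChange K (c ⊗ₜ x))) = _
  rw [LinearMap.baseChange_tmul, bcMap_tmul, map_smul]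
  exact congrArg (fun y => c • (P.pullG v F d).hom.app ⊤ y) (AModX.res_self _)

theorem θ_mu (i : Fin r) (d : ℕ) (z : K ⊗[R] (P.sys R F g).E d) :
    P.θ v F hv g (d + 1) (((P.sys R F g).mu i d).baseChange K z) =
      ((P.pull v).m ((Scheme.Modules.pullback v).obj F) i d).app ⊤ (P.θ v F hv g d z) := by
  induction z using TensorProduct.induction_on with
  | zero => simp only [map_zero]
  | tmul c x =>
    rw [LinearMap.baseChange_tmul, θ_tmul, θ_tmul, P.valR_mu, P.pullSec_m]
    exact ((Pol.appR K ((P.pull v).m ((Scheme.Modules.pullback v).obj F) i d) ⊤).map_smul c _).symm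
  | add a b ha hb => simp only [map_add, ha, hb]

theorem gamG_pullSec (i : Fin r) (d : ℕ) (x : Γ(P.G F d, ⊤)) :
    (P.pull v).gamG K ((Scheme.Modules.pullback v).obj F) i d (P.pullSec v F d x) =
      AModX.res _ (P.pull_U v i).le (InvX.pullElt v (P.gamG R F i d x)) := by
  refine ((P.pull v).pwE K _ i d).injective ?_
  rw [Pol.pwE_gamG, P.pwE_pullSec (R := R) v F i d, Pol.pwE_gamG, ← P.res_pullSec, AModX.res_res]
  rfl

theorem gamG_θ (i : Fin r) (d : ℕ) (z : K ⊗[R] (P.sys R F g).E d) :
    (P.pull v).gamG K ((Scheme.Modules.pullback v).obj F) i d (P.θ v F hv g d z) =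
      P.θU v F hv i ((P.gam R F g i d).baseChange K z) := by
  induction z using TensorProduct.induction_on with
  | zero => simp only [map_zero]
  | tmul c x =>
    rw [θ_tmul, LinearMap.baseChange_tmul, θU, bcMap_tmul]
    exact (map_smul _ c _).trans (congrArg (c • ·) (P.gamG_pullSec (R := R) (K := K) v F i d (P.valR R F g d x)))
  | add a b ha hb => simp only [map_add, ha, hb]

section

variable [CompactSpace X] [QuasiSeparatedSpace X] (hF : Coh.IsQCoh F)

include hF in
/-- In high degrees the comparison is injective. -/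
theorem injective_θ {N d : ℕ} (hd : N ≤ d)
    (hN : ∀ e, N ≤ e → Function.Injective (((P.sys R F g).bc K).psi e)) : Function.Injective (P.θ v F hv g d) := by
  rw [injective_iff_map_eq_zero]
  intro z hz
  refine (injective_iff_map_eq_zero _).1 ((P.col R F g hF).injective_Gam hN hd) z ?_
  refine (TensorProduct.piRight R K K (P.col R F g hF).C).injective (funext fun i => ?_)
  rw [Col.piRight_Gam, map_zero]
  refine (bijective_bcMap v hv hF (P.affine i) (P.pull_U v i)).1 ?_
  refine ((P.gamG_θ v F hv g i d z).symm.trans ?_).trans (map_zero _).symm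
  rw [hz, map_zero]

/-- An element reaches the image of the comparison after multiplying by powers of a section. -/
def Reach (i : Fin r) : ℕ → ∀ d, Γ((P.pull v).G ((Scheme.Modules.pullback v).obj F) d, ⊤) → Prop
  | 0, d, y => y ∈ LinearMap.range (P.θ v F hv g d)
  | k + 1, d, y => Reach i k (d + 1) (((P.pull v).m ((Scheme.Modules.pullback v).obj F) i d).app ⊤ y)

omit [CompactSpace X] [QuasiSeparatedSpace X] in
theorem reach_of_killed (i : Fin r) : ∀ (l : ℕ) {d : ℕ}
    (y : Γ((P.pull v).G ((Scheme.Modules.pullback v).obj F) d, ⊤)) (T : K ⊗[R] (P.sys R F g).E d),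
    (P.pull v).Killed ((Scheme.Modules.pullback v).obj F) i l d (y - P.θ v F hv g d T) → P.Reach v F hv g i l d y
  | 0, _, y, T, h => ⟨T, (sub_eq_zero.1 h).symm⟩
  | l + 1, d, y, T, h => by
    refine reach_of_killed i l _ (((P.sys R F g).mu i d).baseChange K T) ?_
    rw [θ_mu, ← map_sub]
    exact h

include hF in
theorem exists_reach_of_eq [CompactSpace Y] (i : Fin r) : ∀ (k d e : ℕ), e = d + k →
    ∀ (y : Γ((P.pull v).G ((Scheme.Modules.pullback v).obj F) d, ⊤)) (T : K ⊗[R] (P.sys R F g).E e),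
      (P.pull v).gamG K ((Scheme.Modules.pullback v).obj F) i d y =
        P.θU v F hv i ((P.gam R F g i e).baseChange K T) →
      ∃ l, P.Reach v F hv g i l d y := by
  intro k
  induction k with
  | zero =>
    intro d e he
    obtain rfl : e = d := he
    intro y T h
    obtain ⟨l, hl⟩ := (P.pull v).exists_killed_of_gamG K ((Scheme.Modules.pullback v).obj F)
      (QCoh.isQCoh_pullback v hF) i e (y - P.θ v F hv g e T) (by
        rw [map_sub, h, gamG_θ, sub_self])
    exact ⟨l, P.reach_of_killed v F hv g i l y T hl⟩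
  | succ k ih =>
    intro d e he y T h
    obtain ⟨l, hl⟩ := ih (d + 1) e (by omega)
      (((P.pull v).m ((Scheme.Modules.pullback v).obj F) i d).app ⊤ y) T
      (by rw [Pol.gamG_step]; exact h)
    exact ⟨l + 1, hl⟩

include hF in
theorem exists_reach [CompactSpace Y] (i : Fin r) (d : ℕ)
    (y : Γ((P.pull v).G ((Scheme.Modules.pullback v).obj F) d, ⊤)) : ∃ l, P.Reach v F hv g i l d y := by
  obtain ⟨w, hw⟩ := (bijective_bcMap v hv hF (P.affine i) (P.pull_U v i)).2
    ((P.pull v).gamG K ((Scheme.Modules.pullback v).obj F) i d y)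
  obtain ⟨n, T, hT⟩ := (P.col R F g hF).surj_bc K i w
  obtain ⟨T', hT'⟩ := ((P.col R F g hF).bc K).range_mono i (Nat.le_add_left n d) ⟨T, rfl⟩
  replace hT' : (P.gam R F g i (d + n)).baseChange K T' = w := hT'.trans hT
  exact P.exists_reach_of_eq v F hv g hF i n d (d + n) rfl y T' (by rw [hT']; exact hw.symm)

variable (n₀ : ℕ) (fin' : Module.Finite K Γ((P.pull v).G ((Scheme.Modules.pullback v).obj F) n₀, ⊤))
  (gen' : ∀ d, n₀ ≤ d → ⨆ i, LinearMap.range
    (Pol.appR K ((P.pull v).m ((Scheme.Modules.pullback v).obj F) i d) (⊤ : Y.Opens)) = ⊤)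

omit [CompactSpace X] [QuasiSeparatedSpace X] in
theorem range_θ_le (i : Fin r) (d : ℕ) :
    LinearMap.range (P.θ v F hv g d) ≤ (LinearMap.range (P.θ v F hv g (d + 1))).comap
      (Pol.appR K ((P.pull v).m ((Scheme.Modules.pullback v).obj F) i d) ⊤) := by
  rintro _ ⟨z, rfl⟩
  exact ⟨((P.sys R F g).mu i d).baseChange K z, P.θ_mu v F hv g i d z⟩

/-- The cokernels of the comparison. -/
def cokSys : Sys K r where
  E d := Γ((P.pull v).G ((Scheme.Modules.pullback v).obj F) (n₀ + d), ⊤) ⧸ LinearMap.range (P.θ v F hv g (n₀ + d))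
  mu i d := Submodule.mapQ _ _ (Pol.appR K ((P.pull v).m ((Scheme.Modules.pullback v).obj F) i (n₀ + d)) ⊤)
    (P.range_θ_le v F hv g i (n₀ + d))
  comm i j d := by
    refine Submodule.linearMap_qext _ (LinearMap.ext fun x => ?_)
    exact congrArg Submodule.Quotient.mk
      (congr(($((P.pull v).m_comm ((Scheme.Modules.pullback v).obj F) i j (n₀ + d))).app ⊤ x) : _)
  fin := by
    haveI := fin'
    exact Module.Finite.quotient K _
  gen d := by
    refine eq_top_iff.2 fun q hq0 => ?_
    clear hq0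
    obtain ⟨y, rfl⟩ := Submodule.Quotient.mk_surjective _ q
    have hy := (gen' (n₀ + d) (Nat.le_add_right _ _)).ge (Submodule.mem_top (x := y))
    induction hy using Submodule.iSup_induction' with
    | mem i x hx =>
      obtain ⟨z, rfl⟩ := hx
      exact Submodule.mem_iSup_of_mem i ⟨Submodule.Quotient.mk z, rfl⟩
    | zero => exact zero_mem _
    | add a b _ _ ha hb => exact add_mem ha hb

omit [CompactSpace X] [QuasiSeparatedSpace X] in
theorem killedIn_cokSys (i : Fin r) : ∀ (l d : ℕ) (y : Γ((P.pull v).G ((Scheme.Modules.pullback v).obj F) (n₀ + d), ⊤)),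
    P.Reach v F hv g i l (n₀ + d) y →
      (P.cokSys v F hv g n₀ fin' gen').KilledIn i l d (Submodule.Quotient.mk y)
  | 0, _, _, h => (Submodule.Quotient.mk_eq_zero _).2 h
  | l + 1, d, _, h => killedIn_cokSys i l (d + 1) _ h

include hF fin' gen' in
/-- In high degrees the comparison is surjective. -/
theorem exists_surjective [CompactSpace Y] [IsNoetherianRing K] :
    ∃ M, ∀ d, M ≤ d → Function.Surjective (P.θ v F hv g d) := by
  obtain ⟨N, hN⟩ := (P.cokSys v F hv g n₀ fin' gen').exists_psi_injective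
  have key : ∀ j, N ≤ j → Function.Surjective (P.θ v F hv g (n₀ + j)) := fun j hj y => by
    choose l hl using fun i => P.exists_reach v F hv g hF i (n₀ + j) y
    exact (Submodule.Quotient.mk_eq_zero _).1 ((P.cokSys v F hv g n₀ fin' gen').eq_zero_of_killedIn hN _ l le_rfl
      j hj (Submodule.Quotient.mk y) fun i => P.killedIn_cokSys v F hv g n₀ fin' gen' i (l i) j y (hl i))
  refine ⟨n₀ + N, fun d hd => ?_⟩
  obtain ⟨j, rfl⟩ := Nat.exists_eq_add_of_le (show n₀ ≤ d by omega)
  exact key j (by omega)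

end

include hv in
omit [IsAffineHom v] in
theorem isProper_fibre [IsProper (X ↘ Spec (CommRingCat.of R))] : IsProper (Y ↘ Spec (CommRingCat.of K)) :=
  MorphismProperty.of_isPullback hv inferInstance

/-- In high degrees the pieces have the Euler characteristics of the twists of the fibre as dimensions. -/
theorem exists_finrank_eq {K : Type u} [Field K] [Algebra R K] [IsNoetherianRing R]
    [IsProper (X ↘ Spec (CommRingCat.of R))] [Y.Over (Spec (CommRingCat.of K))]
    (hv : IsPullback v (Y ↘ Spec (CommRingCat.of K)) (X ↘ Spec (CommRingCat.of R))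
      (Spec.map (CommRingCat.ofHom (algebraMap R K))))
    (hF : Coh.IsCoh F) {N : ℕ}
    (hN : ∀ e, N ≤ e → Function.Injective (((P.sys R F g).bc K).psi e)) :
    ∃ M, ∀ d, M ≤ d → (Module.finrank K (K ⊗[R] (P.sys R F g).E d) : ℤ) =
      Curv2.euler K Y ((P.pull v).G ((Scheme.Modules.pullback v).obj F) d) := by
  haveI := FlatG.isNoetherian (X := X) R
  haveI : IsProper (Y ↘ Spec (CommRingCat.of K)) := isProper_fibre v hv
  haveI := FlatG.isNoetherian (X := Y) K
  have hF' : Coh.IsCoh ((Scheme.Modules.pullback v).obj F) := ZClosLib.isCoh_pullback v hF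
  obtain ⟨e, he⟩ := exists_gen (P.pull v) K hF'
  obtain ⟨N₁, hN₁⟩ := exists_euler_eq (K := K) (P.pull v) hF'
  obtain ⟨M, hM⟩ := P.exists_surjective v F hv g hF.1 e
    (finite_gamma K (isCoh_itw (P.pull v).inv hF' e)) he
  refine ⟨max (max N N₁) M, fun d hd => ?_⟩
  rw [(hN₁ d (by omega)).2]
  exact congrArg Nat.cast (LinearEquiv.ofBijective (P.θ v F hv g d)
    ⟨P.injective_θ v F hv g hF.1 (by omega : N ≤ d) hN, hM d (by omega)⟩).finrank_eq

end Pol

end Groth.Agent.FlatG
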