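import Groth.Agent.FlatG.Affine
import Groth.Agent.FlatG.Hilb
import Groth.Agent.HilbPoly.Stab

/-!
# The strata over an affine open of the base
-/

set_option autoImplicit false
set_option linter.style.haveILetI false
set_option backward.isDefEq.respectTransparency false
set_option backward.isDefEq.respectTransparency.types false

universe u

open CategoryTheory AlgebraicGeometry TopologicalSpace Opposite

attribute [local instance] HasDerivedCategory.standard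

noncomputable section

namespace Groth.Agent.FlatG

open Groth.Agent

theorem evLE_of_le {P Q : Polynomial ℚ} {c : ℕ}
    (h : ∃ M, ∀ d : ℕ, M ≤ d → P.eval ((c + d : ℕ) : ℚ) ≤ Q.eval ((c + d : ℕ) : ℚ)) : EvLE P Q := by
  obtain ⟨M, hM⟩ := h
  refine ⟨(c + M : ℕ), fun m hm => ?_⟩
  obtain ⟨d, rfl⟩ : ∃ d : ℕ, m = ((c + d : ℕ) : ℤ) := ⟨m.toNat - c, by omega⟩
  rw [Int.cast_natCast]
  exact hM d (by omega)

/-- The strata over an affine open of the base, from polarisations and the Hilbert polynomials of the fibres. -/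
theorem localStrata {X S : Scheme.{u}} {f : X ⟶ S} {F : X.Modules} {hil : S → Polynomial ℚ} (hF : Coh.IsCoh F)
    {V : S.Opens} (hV : IsAffineOpen V) [IsNoetherianRing Γ(S, V)] {X₀ : Scheme.{u}}
    [X₀.Over (Spec (CommRingCat.of Γ(S, V)))] [IsProper (X₀ ↘ Spec (CommRingCat.of Γ(S, V)))] {g : X₀ ⟶ X}
    (hc : IsPullback g (X₀ ↘ Spec (CommRingCat.of Γ(S, V))) f hV.fromSpec) {r : ℕ} (P : Pol X₀ r)
    (hlink : ∀ q : PrimeSpectrum Γ(S, V), ∃ (K : Type u) (_ : Field K) (_ : Algebra Γ(S, V) K) (Y : Scheme.{u})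
      (_ : Y.Over (Spec (CommRingCat.of K))) (v : Y ⟶ X₀) (_ : IsAffineHom v),
      IsPullback v (Y ↘ Spec (CommRingCat.of K)) (X₀ ↘ Spec (CommRingCat.of Γ(S, V)))
        (Spec.map (CommRingCat.ofHom (algebraMap Γ(S, V) K))) ∧
      (⊥ : PrimeSpectrum K).comap (algebraMap Γ(S, V) K) = q ∧
      ∀ m : ℕ, (Curv2.euler K Y ((P.pull v).G ((Scheme.Modules.pullback v).obj ((Scheme.Modules.pullback g).obj F)) m) : ℚ) =
        (hil (hV.fromSpec q)).eval (m : ℚ)) :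
    LocalStrata f F hil V := by
  classical
  haveI := isNoetherian (X := X₀) Γ(S, V)
  have hF₀ : Coh.IsCoh ((Scheme.Modules.pullback g).obj F) := ZClosLib.isCoh_pullback g hF
  obtain ⟨hp, c, hev, ⟨Q₀, hQ₀⟩, hclosed, hsep, hlc, hstr⟩ := exists_hilb_strata (R := Γ(S, V)) P hF₀
  let H : PrimeSpectrum Γ(S, V) → Polynomial ℚ := fun q => hil (hV.fromSpec q)
  have hconn : ∀ q, ∃ M, ∀ d, M ≤ d → (hp q d : ℚ) = (H q).eval ((c + d : ℕ) : ℚ) := fun q => by
    obtain ⟨K, _, _, Y, _, v, _, hv, hq, hm⟩ := hlink q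
    obtain ⟨M, hM⟩ := hev K Y v hv
    refine ⟨M, fun d hd => ?_⟩
    rw [← hm (c + d), ← hM d hd, hq]
    rfl
  have hH : ∀ {q q'}, hp q = hp q' → H q = H q' := fun {q q'} h => by
    obtain ⟨M, hM⟩ := hconn q
    obtain ⟨M', hM'⟩ := hconn q'
    refine HilbPoly.poly_ext (c + max M M') fun m hm => ?_
    obtain ⟨d, rfl⟩ : ∃ d, m = c + d := ⟨m - c, by omega⟩
    rw [← hM d (by omega), ← hM' d (by omega), h]
  have hh : ∀ {q q'}, H q = H q' → hp q = hp q' := fun {q q'} h => hsep q q' (by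
    obtain ⟨M, hM⟩ := hconn q
    obtain ⟨M', hM'⟩ := hconn q'
    refine ⟨max M M', fun d hd => ?_⟩
    have h1 := (hM d (by omega)).trans ((congrArg (Polynomial.eval _) h).trans (hM' d (by omega)).symm)
    exact_mod_cast h1)
  have hrepH : ∀ q, ∃ q₀ ∈ Q₀, hp q = hp q₀ ∧ H q = H q₀ := fun q => by
    obtain ⟨q₀, hq₀, h⟩ := hQ₀ q
    exact ⟨q₀, hq₀, h, hH h⟩
  -- the comparison of `V` with the spectrum
  let φ := hV.isoSpec
  have hφ : φ.inv ≫ V.ι = hV.fromSpec := hV.isoSpec_inv_ι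
  have hφp : ∀ x : V, hV.fromSpec (φ.hom x) = x.1 := fun x => by
    rw [← hφ, ← Scheme.Hom.comp_apply, Iso.hom_inv_id_assoc]
    rfl
  have hflat : ∀ ⦃T : Scheme.{u}⦄ (v : T ⟶ (V : Scheme.{u})), FlatC f F (v ≫ V.ι) ↔
      FlatC (X₀ ↘ Spec (CommRingCat.of Γ(S, V))) ((Scheme.Modules.pullback g).obj F) (v ≫ φ.hom) := fun T v => by
    rw [flatC_base hF.1 hc (v ≫ φ.hom), ← hφ, Category.assoc, Iso.hom_inv_id_assoc]
  have hval : ∀ ⦃T : Scheme.{u}⦄ (v : T ⟶ (V : Scheme.{u})) (t : T), hil ((v ≫ V.ι) t) = H ((v ≫ φ.hom) t) :=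
    fun T v t => congrArg hil ((hφp (v t)).symm)
  refine ⟨?_, fun Q => ?_, fun Q => ?_, fun T v h => ?_⟩
  · refine (Q₀.image H).finite_toSet.subset ?_
    rintro _ ⟨x, hx, rfl⟩
    obtain ⟨q₀, hq₀, -, h⟩ := hrepH (φ.hom ⟨x, hx⟩)
    refine Finset.mem_coe.2 (Finset.mem_image.2 ⟨q₀, hq₀, ?_⟩)
    rw [← h]
    exact congrArg hil (hφp ⟨x, hx⟩)
  · have hset : {q | EvLE Q (H q)} = ⋃ q₀ ∈ Q₀.filter fun q₀ => EvLE Q (H q₀), {q | ∀ d, hp q₀ d ≤ hp q d} := by
      ext q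
      simp only [Set.mem_setOf_eq, Set.mem_iUnion, Finset.mem_filter, exists_prop]
      constructor
      · intro h
        obtain ⟨q₀, hq₀, h₀, h₁⟩ := hrepH q
        exact ⟨q₀, ⟨hq₀, h₁ ▸ h⟩, fun d => (congrFun h₀ d).ge⟩
      · rintro ⟨q₀, ⟨-, m₀, hm₀⟩, hle⟩
        obtain ⟨M, hM⟩ := hconn q
        obtain ⟨M', hM'⟩ := hconn q₀
        refine evLE_of_le (c := c) ⟨max (max M M') m₀.toNat, fun d hd => ?_⟩
        refine le_trans ?_ ((Nat.cast_le.2 (hle d)).trans_eq (hM d (by omega)))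
        rw [hM' d (by omega), ← Int.cast_natCast]
        exact hm₀ _ (by omega)
    have hcl : IsClosed {q | EvLE Q (H q)} := by
      rw [hset]
      exact isClosed_biUnion_finset fun q₀ _ => hclosed (hp q₀)
    have heq : {v : V | EvLE Q (hil v.1)} = φ.hom ⁻¹' {q | EvLE Q (H q)} :=
      Set.ext fun x => Iff.of_eq (congrArg (fun y => EvLE Q (hil y)) (hφp x).symm)
    rw [heq]
    exact hcl.preimage φ.hom.continuous
  · obtain ⟨h, hQh⟩ : ∃ h : ℕ → ℕ, ∀ q, hp q = h ↔ H q = Q := by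
      by_cases hQ : ∃ q, H q = Q
      · obtain ⟨q₁, rfl⟩ := hQ
        exact ⟨hp q₁, fun q => ⟨hH, hh⟩⟩
      · refine ⟨fun d => Q₀.sup (fun q₀ => hp q₀ d) + 1, fun q => ⟨fun h => ?_, fun h => absurd ⟨q, h⟩ hQ⟩⟩
        obtain ⟨q₀, hq₀, h₀, -⟩ := hrepH q
        have := congrFun (h₀.symm.trans h) 0
        have := Finset.le_sup (f := fun q₀ => hp q₀ 0) hq₀
        omega
    obtain ⟨Z, z, hz, hzu⟩ := hstr h
    haveI := hz
    refine ⟨Z, z ≫ φ.inv, inferInstance, fun T v => ?_⟩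
    rw [hflat v]
    refine Iff.trans ?_ ((hzu (v ≫ φ.hom)).trans (and_congr_right' (forall_congr' fun t => ?_)))
    · exact ⟨fun ⟨l, hl⟩ => ⟨l, by rw [← hl, Category.assoc, Category.assoc, Iso.inv_hom_id, Category.comp_id]⟩,
        fun ⟨l, hl⟩ => ⟨l, by rw [← Category.assoc, hl, Category.assoc, Iso.hom_inv_id, Category.comp_id]⟩⟩
    · exact (hQh _).trans (Iff.of_eq (congrArg (· = Q) (hval v t).symm))
  · have h1 := hlc (v ≫ φ.hom) ((hflat v).1 h)
    rw [IsLocallyConstant.iff_exists_open] at h1 ⊢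
    intro t
    obtain ⟨O, hO, htO, hOc⟩ := h1 t
    exact ⟨O, hO, htO, fun t' ht' => by rw [hval v t', hval v t]; exact hH (hOc t' ht')⟩

end Groth.Agent.FlatG
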