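import Groth.Agent.FlatG.Local
import Groth.Agent.FlatG.ZPoly
import Groth.Agent.H28.KRREpi
import Groth.Agent.H28.PBFree
import Groth.Agent.H28.PnFlat
import Groth.Agent.SeesawX.PnFibre
import Groth.Prelude.Def_FGA

/-!
# Flattening stratification for coherent modules on projective space
-/

set_option autoImplicit false
set_option linter.style.haveILetI false
set_option backward.isDefEq.respectTransparency false
set_option backward.isDefEq.respectTransparency.types false

universe u

open CategoryTheory AlgebraicGeometry TopologicalSpace Opposite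

attribute [local instance] HasDerivedCategory.standard

noncomputable section

namespace Groth.Agent.FlatG

open Groth.Agent Groth.Agent.H28.KRRTw

attribute [local instance] MvPolynomial.gradedAlgebra

variable {n : ℕ}

theorem genLocus_crd (T : Scheme.{u}) (i : Fin (n + 1)) :
    CohB1.genLocus (Twist.twistOver n T 1) (InvX.ofSect (H28.PBFree.crdSec n T i)) =
      toPn n T ⁻¹ᵁ PnCoh.Finite.D (CohB1.polyGrading n (ULift.{u} ℤ)) (H28.KRRReg.crd.{u} n ⟨i⟩) := by
  rw [AmpleX.genLocus_eq_locus, InvX.one_ofSect]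
  refine (AmpleX.locus_pullElt (H28.PBFree.isInvertible_twist1 n) (toPn n T) _).trans ?_
  refine congrArg (toPn n T ⁻¹ᵁ ·) ?_
  refine ((congrArg AmpleX.locus (InvX.one_ofSect _)).symm.trans (AmpleX.genLocus_eq_locus _).symm).trans ?_
  exact H28.KRREpi.genLocus_sec _ (H28.KRRReg.crd n) H28.KRRReg.crd_mem H28.KRRReg.crd_cover (ProjPt.X_mem i)

/-- The polarisation of projective space over an affine scheme. -/
def pnPol (T : Scheme.{u}) [IsAffine T] : Pol (CohB1.ProjSpaceOver n T) (n + 1) where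
  L := Twist.twistOver n T 1
  inv := H28.KRRReg.isInvertible_twistOver 1
  s i := InvX.ofSect (H28.PBFree.crdSec n T i)
  affine i := by
    rw [genLocus_crd]
    haveI : IsAffineHom (toPn n T) := MorphismProperty.pullback_fst _ _ inferInstance
    exact (Proj.isAffineOpen_basicOpen _ _ (H28.KRRReg.crd_mem ⟨i⟩) Nat.one_pos).preimage _
  cover x := by
    obtain ⟨i, hi⟩ := Opens.mem_iSup.1 (H28.KRRReg.crd_cover.{u}.ge
      (trivial : toPn n T x ∈ (⊤ : Opens (CohB1.ProjSpace n (ULift.{u} ℤ)))))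
    refine ⟨i.down, ?_⟩
    rw [genLocus_crd]
    exact hi

section Fibre

variable (n) (S : Scheme.{u}) (s : S)

/-- The fibre at a point, formed as in the statements. -/
abbrev Fib : Scheme.{u} :=
  (FGA.fibreAt (CohB1.ProjSpaceOver.toBase n S) (Over.mk (𝟙 S)) s).left

/-- Its projection. -/
abbrev fibSnd : Fib n S s ⟶ Spec (S.residueField s) :=
  Limits.pullback.snd (PicF.XTproj (CohB1.ProjSpaceOver.toBase n S) (Over.mk (𝟙 S)))
    ((Over.mk (𝟙 S)).left.fromSpecResidueField s)

/-- Its map to projective space. -/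
abbrev fibw : Fib n S s ⟶ CohB1.ProjSpaceOver n S :=
  Limits.pullback.fst (PicF.XTproj (CohB1.ProjSpaceOver.toBase n S) (Over.mk (𝟙 S)))
      ((Over.mk (𝟙 S)).left.fromSpecResidueField s) ≫
    Limits.pullback.fst (CohB1.ProjSpaceOver.toBase n S) (Over.mk (𝟙 S)).hom

instance fibOver : (Fib n S s).Over (Spec (CommRingCat.of (S.residueField s))) := ⟨fibSnd n S s⟩

theorem isPullback_fibw : IsPullback (fibw n S s) (fibSnd n S s) (CohB1.ProjSpaceOver.toBase n S)
    (S.fromSpecResidueField s) := by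
  have h := (IsPullback.of_hasPullback (PicF.XTproj (CohB1.ProjSpaceOver.toBase n S) (Over.mk (𝟙 S)))
    ((Over.mk (𝟙 S)).left.fromSpecResidueField s)).paste_horiz
    (IsPullback.of_hasPullback (CohB1.ProjSpaceOver.toBase n S) (Over.mk (𝟙 S)).hom)
  rw [show ((Over.mk (𝟙 S)).left.fromSpecResidueField s ≫ (Over.mk (𝟙 S)).hom) = S.fromSpecResidueField s from
    Category.comp_id _] at h
  exact h

/-- Restriction to the fibre is inverse image. -/
def restrIso (E : (CohB1.ProjSpaceOver n S).Modules) :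
    FGA.restrFibre (CohB1.ProjSpaceOver.toBase n S) (Over.mk (𝟙 S)) s
        (FGA.ET (CohB1.ProjSpaceOver.toBase n S) E (Over.mk (𝟙 S))) ≅
      (Scheme.Modules.pullback (fibw n S s)).obj E :=
  (Scheme.Modules.pullbackComp _ _).app E

theorem isProper_fib : IsProper (fibSnd n S s) := by
  haveI : IsProper (CohB1.ProjSpaceOver.toBase n S) := H28.PnFlat.isProper_pr n S
  exact MorphismProperty.of_isPullback (isPullback_fibw n S s) inferInstance

/-- The twists on the fibre. -/
abbrev fibO (m : ℤ) : (Fib n S s).Modules := (Scheme.Modules.pullback (fibw n S s)).obj (Twist.twistOver n S m)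

theorem fibO_zero : Nonempty (fibO n S s 0 ≅ Coh.structureModule (Fib n S s)) := by
  obtain ⟨e⟩ := H28.KRRReg.twistOver_zero (n := n) (T := S)
  obtain ⟨e'⟩ := PicClLib.nonempty_pullback_structureModule (fibw n S s)
  exact ⟨(Scheme.Modules.pullback _).mapIso e ≪≫ e'⟩

theorem fibO_add (a b : ℤ) :
    Nonempty (CohB1.tensorMod (fibO n S s a) (fibO n S s b) ≅ fibO n S s (a + b)) := by
  obtain ⟨e⟩ := H28.KRRReg.twistOver_add (n := n) (T := S) a b
  obtain ⟨e'⟩ := H23.PicMul.pull (fibw n S s) (Twist.twistOver n S a) (Twist.twistOver n S b)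
  exact ⟨e'.symm ≪≫ (Scheme.Modules.pullback _).mapIso e⟩

theorem subsingleton_HH_fib {M : (Fib n S s).Modules} (hM : Coh.IsQCoh M) (i : ℕ) (hi : n < i) :
    Subsingleton (Coh.HH (Fib n S s) M i) := by
  have h1 := (isPullback_fibw n S s).paste_horiz (IsPullback.of_hasPullback
    (CohB1.ProjSpace.toSpec n (ULift.{u} ℤ)) (specULiftZIsTerminal.from S))
  haveI : IsAffineHom (fibw n S s ≫ toPn n S) := MorphismProperty.of_isPullback h1.flip inferInstance
  haveI := isProper_fib n S s
  haveI : (Fib n S s).IsSeparated := ⟨by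
    rw [show Limits.terminal.from (Fib n S s) = fibSnd n S s ≫ Limits.terminal.from _ from Subsingleton.elim _ _]
    infer_instance⟩
  refine QCoh.HH_subsingleton_of_cover (n + 1)
    (fun j => (fibw n S s ≫ toPn n S) ⁻¹ᵁ PnCoh.Finite.D (CohB1.polyGrading n (ULift.{u} ℤ)) (H28.KRRReg.crd.{u} n ⟨j⟩))
    (fun j => (Proj.isAffineOpen_basicOpen _ _ (H28.KRRReg.crd_mem ⟨j⟩) Nat.one_pos).preimage _)
    (by rw [← Scheme.Hom.preimage_iSup, show (⨆ j : Fin (n + 1), PnCoh.Finite.D (CohB1.polyGrading n (ULift.{u} ℤ)) (H28.KRRReg.crd.{u} n ⟨j⟩)) = ⊤ from (Equiv.ulift.symm.iSup_comp).trans H28.KRRReg.crd_cover, Scheme.Hom.preimage_top])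
    (fun V W hV hW => hV.inf hW) hM i hi

theorem eulerCharLE_fib {M : (Fib n S s).Modules} (hM : Coh.IsQCoh M) :
    FGA.eulerCharLE (S.residueField s) (Fib n S s) M n = Curv2.euler (S.residueField s) (Fib n S s) M := by
  unfold FGA.eulerCharLE Curv2.euler
  refine (finsum_eq_sum_of_support_subset _ fun i hi => ?_).symm
  simp only [Finset.coe_range, Set.mem_Iio]
  by_contra hlt
  haveI := subsingleton_HH_fib n S s hM i (by omega)
  refine hi ?_
  simp only [Module.finrank_zero_of_subsingleton, Nat.cast_zero, mul_zero]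

variable {n S}

theorem isCoh_fib [IsLocallyNoetherian S] {F : (CohB1.ProjSpaceOver n S).Modules} (hF : Coh.IsCoh F) :
    Coh.IsCoh ((Scheme.Modules.pullback (fibw n S s)).obj F) := by
  haveI := isProper_fib n S s
  haveI : IsLocallyNoetherian (Fib n S s) := LocallyOfFiniteType.isLocallyNoetherian (fibSnd n S s)
  haveI : IsProper (CohB1.ProjSpaceOver.toBase n S) := H28.PnFlat.isProper_pr n S
  haveI : IsLocallyNoetherian (CohB1.ProjSpaceOver n S) :=
    LocallyOfFiniteType.isLocallyNoetherian (CohB1.ProjSpaceOver.toBase n S)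
  exact ZClosLib.isCoh_pullback _ hF

theorem euler_fibre [IsLocallyNoetherian S] {F : (CohB1.ProjSpaceOver n S).Modules} (hF : Coh.IsCoh F) (m : ℤ) :
    FGA.eulerCharLE ((Over.mk (𝟙 S)).left.residueField s)
        (FGA.fibreAt (CohB1.ProjSpaceOver.toBase n S) (Over.mk (𝟙 S)) s).left
        (CohB1.tensorMod
          (FGA.restrFibre (CohB1.ProjSpaceOver.toBase n S) (Over.mk (𝟙 S)) s
            (FGA.ET (CohB1.ProjSpaceOver.toBase n S) F (Over.mk (𝟙 S))))
          (FGA.restrFibre (CohB1.ProjSpaceOver.toBase n S) (Over.mk (𝟙 S)) s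
            (FGA.ET (CohB1.ProjSpaceOver.toBase n S) (Twist.twistOver n S m) (Over.mk (𝟙 S))))) n =
      Curv2.euler (S.residueField s) (Fib n S s)
        (CohB1.tensorMod ((Scheme.Modules.pullback (fibw n S s)).obj F) (fibO n S s m)) := by
  have hT : Coh.IsQCoh (CohB1.tensorMod ((Scheme.Modules.pullback (fibw n S s)).obj F) (fibO n S s m)) :=
    KFlatLib.isQCoh_tensor (QCoh.isQCoh_pullback _ hF.1)
      (QCoh.isQCoh_of_isFinLocFree (H23.PullPush.isFinLocFree_of_isInvertible (PicClLib.isInvertible_pullback _ (H28.KRRReg.isInvertible_twistOver m))))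
  let e := (DCoh.tensorBi.mapIso (restrIso n S s F)).app _ ≪≫
    (DCoh.tensorBi.obj ((Scheme.Modules.pullback (fibw n S s)).obj F)).mapIso (restrIso n S s (Twist.twistOver n S m))
  refine (eulerCharLE_fib n S s ((QCoh.isQCoh_iff_iso e).2 hT)).trans ?_
  exact CurveCohLib.euler_congr e

theorem exists_fibre_poly [IsLocallyNoetherian S] {F : (CohB1.ProjSpaceOver n S).Modules} (hF : Coh.IsCoh F) :
    ∃ P : Polynomial ℚ, ∀ m : ℤ, (Curv2.euler (S.residueField s) (Fib n S s)
        (CohB1.tensorMod ((Scheme.Modules.pullback (fibw n S s)).obj F) (fibO n S s m)) : ℚ) = P.eval (m : ℚ) := by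
  haveI : IsProper (Fib n S s ↘ Spec (CommRingCat.of (S.residueField s))) := isProper_fib n S s
  exact exists_poly_int (fun a => PicClLib.isInvertible_pullback _ (H28.KRRReg.isInvertible_twistOver a))
    (fibO_zero n S s) (fibO_add n S s) (isCoh_fib s hF)

end Fibre

variable {S : Scheme.{u}} [IsLocallyNoetherian S]

/-- The Hilbert polynomial of the fibre. -/
def hilPn {F : (CohB1.ProjSpaceOver n S).Modules} (hF : Coh.IsCoh F) (s : S) : Polynomial ℚ :=
  (exists_fibre_poly s hF).choose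

theorem hilPn_spec {F : (CohB1.ProjSpaceOver n S).Modules} (hF : Coh.IsCoh F) (s : S) (m : ℤ) :
    (Curv2.euler (S.residueField s) (Fib n S s)
        (CohB1.tensorMod ((Scheme.Modules.pullback (fibw n S s)).obj F) (fibO n S s m)) : ℚ) =
      (hilPn hF s).eval (m : ℚ) :=
  (exists_fibre_poly s hF).choose_spec m

/-- The Hilbert polynomial in the form of the statements. -/
theorem eulerCharLE_eq_hilPn {F : (CohB1.ProjSpaceOver n S).Modules} (hF : Coh.IsCoh F) (s : (Over.mk (𝟙 S)).left)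
    (m : ℤ) :
    (FGA.eulerCharLE ((Over.mk (𝟙 S)).left.residueField s)
        (FGA.fibreAt (CohB1.ProjSpaceOver.toBase n S) (Over.mk (𝟙 S)) s).left
        (CohB1.tensorMod
          (FGA.restrFibre (CohB1.ProjSpaceOver.toBase n S) (Over.mk (𝟙 S)) s
            (FGA.ET (CohB1.ProjSpaceOver.toBase n S) F (Over.mk (𝟙 S))))
          (FGA.restrFibre (CohB1.ProjSpaceOver.toBase n S) (Over.mk (𝟙 S)) s
            (FGA.ET (CohB1.ProjSpaceOver.toBase n S) (Twist.twistOver n S m) (Over.mk (𝟙 S))))) n : ℚ) =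
      (hilPn hF s).eval (m : ℚ) := by
  exact (congrArg Int.cast (euler_fibre (S := S) s hF m)).trans (hilPn_spec hF s m)

theorem localStrata_pn {F : (CohB1.ProjSpaceOver n S).Modules} (hF : Coh.IsCoh F) {V : S.Opens} (hV : IsAffineOpen V) :
    LocalStrata (CohB1.ProjSpaceOver.toBase n S) F (hilPn hF) V := by
  haveI : IsNoetherianRing Γ(S, V) := IsLocallyNoetherian.component_noetherian ⟨V, hV⟩
  let T := Spec (CommRingCat.of Γ(S, V))
  haveI : IsProper (CohB1.ProjSpaceOver n T ↘ T) := H28.PnFlat.isProper_pr n T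
  let g : CohB1.ProjSpaceOver n T ⟶ CohB1.ProjSpaceOver n S := FGA.projMap n hV.fromSpec
  have hc : IsPullback g (CohB1.ProjSpaceOver n T ↘ T) (CohB1.ProjSpaceOver.toBase n S) hV.fromSpec :=
    SeesawX.PnFibre.isPullback_ψ hV.fromSpec
  refine localStrata hF hV hc (pnPol T) fun q => ?_
  let s : S := hV.fromSpec q
  obtain ⟨ℓ, hℓ⟩ : ∃ ℓ : Spec (S.residueField s) ⟶ T, ℓ ≫ hV.fromSpec = S.fromSpecResidueField s :=
    ⟨IsOpenImmersion.lift hV.fromSpec (S.fromSpecResidueField s) (by
      rintro _ ⟨x, rfl⟩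
      rw [Scheme.fromSpecResidueField_apply]
      exact ⟨q, rfl⟩), IsOpenImmersion.lift_fac _ _ _⟩
  obtain ⟨φ, rfl⟩ : ∃ φ, Spec.map φ = ℓ := ⟨Spec.preimage _, Spec.map_preimage _⟩
  letI : Algebra Γ(S, V) (S.residueField s) := φ.hom.toAlgebra
  have hφ : CommRingCat.ofHom (algebraMap Γ(S, V) (S.residueField s)) = φ := rfl
  let v : Fib n S s ⟶ CohB1.ProjSpaceOver n T := hc.lift (fibw n S s) (fibSnd n S s ≫ Spec.map φ)
    ((isPullback_fibw n S s).w.trans ((congrArg (fibSnd n S s ≫ ·) hℓ).symm.trans (Category.assoc _ _ _).symm))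
  have hv : IsPullback v (fibSnd n S s) (CohB1.ProjSpaceOver n T ↘ T) (Spec.map φ) :=
    IsPullback.of_right (by rw [IsPullback.lift_fst, hℓ]; exact isPullback_fibw n S s) (IsPullback.lift_snd _ _ _ _) hc
  haveI hva : IsAffineHom v := MorphismProperty.of_isPullback hv.flip inferInstance
  refine ⟨S.residueField s, inferInstance, φ.hom.toAlgebra, Fib n S s, inferInstance, v, hva, ?_, ?_, fun m => ?_⟩
  · exact hφ ▸ hv
  · refine hV.fromSpec.isOpenEmbedding.injective ?_
    show hV.fromSpec (Spec.map φ (⊥ : PrimeSpectrum (S.residueField s))) = hV.fromSpec q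
    exact (congr(($hℓ) (⊥ : PrimeSpectrum (S.residueField s))) :).trans (Scheme.fromSpecResidueField_apply _ _)
  · have hvg : v ≫ g = fibw n S s := IsPullback.lift_fst _ _ _ _
    obtain ⟨e₁⟩ := H28.PnBC.pullback_twistOver (n := n) hV.fromSpec (1 : ℤ)
    let eL : ((pnPol T).pull v).L ≅ fibO n S s 1 :=
      (Scheme.Modules.pullback v).mapIso e₁.symm ≪≫ (Scheme.Modules.pullbackComp v g).app _ ≪≫
        (Scheme.Modules.pullbackCongr hvg).app _
    let eF : (Scheme.Modules.pullback v).obj ((Scheme.Modules.pullback g).obj F) ≅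
        (Scheme.Modules.pullback (fibw n S s)).obj F :=
      (Scheme.Modules.pullbackComp v g).app _ ≪≫ (Scheme.Modules.pullbackCongr hvg).app _
    obtain ⟨θ, -⟩ := AmpleVan.exists_itwIso ((pnPol T).pull v).L
      ((Scheme.Modules.pullback v).obj ((Scheme.Modules.pullback g).obj F)) m
    obtain ⟨e₂⟩ := nonempty_tensorPow (fibO_zero n S s) (fibO_add n S s) m
    obtain ⟨e₃⟩ : Nonempty (CohB1.tensorPow ((pnPol T).pull v).L m ≅ CohB1.tensorPow (fibO n S s 1) m) := by
      clear θ e₂
      induction m with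
      | zero => exact ⟨Iso.refl _⟩
      | succ m ih =>
        obtain ⟨e⟩ := ih
        exact ⟨(DCoh.tensorBi.mapIso e).app _ ≪≫ (DCoh.tensorBi.obj _).mapIso eL⟩
    have hiso := θ ≪≫ (DCoh.tensorBi.mapIso eF).app _ ≪≫
      (DCoh.tensorBi.obj ((Scheme.Modules.pullback (fibw n S s)).obj F)).mapIso (e₃ ≪≫ e₂)
    rw [← Int.cast_natCast (R := ℚ) m, ← hilPn_spec hF s m]
    exact congrArg Int.cast (CurveCohLib.euler_congr (k := S.residueField s) hiso)

/-- The flattening stratification on projective space. -/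
theorem exists_stratification_pn [CompactSpace S] {F : (CohB1.ProjSpaceOver n S).Modules} (hF : Coh.IsCoh F) :
    ∃ (I : Finset (Polynomial ℚ)) (St : ↥I → Scheme.{u}) (e : ∀ P : ↥I, St P ⟶ S),
      (∀ P, IsImmersion (e P)) ∧
      (∀ (P : ↥I) (s : S), s ∈ Set.range (e P) ↔ hilPn hF s = (P : Polynomial ℚ)) ∧
      (∀ s : S, hilPn hF s ∈ I) ∧
      (∀ (T : Scheme.{u}) (φ : T ⟶ S),
        FlatMod.IsFlatOver (CohB1.ProjSpaceOver.toBase n T) ((Scheme.Modules.pullback (FGA.projMap n φ)).obj F) ↔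
          ∃ g : T ⟶ ∐ St, g ≫ Limits.Sigma.desc e = φ) ∧
      (∀ P : ↥I, closure (Set.range (e P)) ⊆
        ⋃ Q ∈ {Q : ↥I | EvLE (P : Polynomial ℚ) (Q : Polynomial ℚ)}, Set.range (e Q)) := by
  obtain ⟨I, St, e, he, hr, hI, hu, hcl⟩ := exists_stratification hF.1 (iSup_affineOpens_eq_top S)
    fun V : S.affineOpens => localStrata_pn hF V.2
  refine ⟨I, St, e, he, hr, hI, fun T φ => ?_, hcl⟩
  exact (flatC_iff_isPullback hF.1 (SeesawX.PnFibre.isPullback_ψ φ)).trans (hu T φ)

end Groth.Agent.FlatG
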