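import Groth.Agent.FlatG.Rel

/-!
# Finiteness properties of the strata, and flatness over a reduced base
-/

set_option autoImplicit false
set_option maxHeartbeats 1000000
set_option synthInstance.maxHeartbeats 400000
set_option linter.style.haveILetI false
set_option backward.isDefEq.respectTransparency.types false
set_option backward.isDefEq.respectTransparency false

universe u

open CategoryTheory CategoryTheory.Limits AlgebraicGeometry TopologicalSpace Opposite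

attribute [local instance] HasDerivedCategory.standard

noncomputable section

namespace Groth.Agent.FlatG

open Groth.Agent

variable {X S : Scheme.{u}} (f : X ⟶ S) (L F : X.Modules) [IsProper f] [LocallyOfFinitePresentation f]
  (hL : PicF.IsInvertible L) (hF : CohB1.IsFP F)

omit [LocallyOfFinitePresentation f] in
theorem flatC_id_iff {X' : Scheme.{u}} {g : X' ⟶ X} {u' : X' ⟶ S} (hg : IsPullback g u' f (𝟙 S))
    (hFq : Coh.IsQCoh F) :
    FlatMod.IsFlatOver u' ((Scheme.Modules.pullback g).obj F) ↔ FlatC f F (𝟙 S) :=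
  flatC_iff_isPullback hFq hg

/-- Over an affine open the stratum is given by an immersion of finite presentation. -/
theorem exists_stratum_fp_local (hA : RelAmple.IsRelAmple f L) {V : S.Opens} (hV : IsAffineOpen V)
    (Q : Polynomial ℚ) :
    ∃ (Z : Scheme.{u}) (z : Z ⟶ (V : Scheme.{u})), IsImmersion z ∧ QuasiCompact z ∧
      LocallyOfFinitePresentation z ∧
      ∀ ⦃T : Scheme.{u}⦄ (v : T ⟶ (V : Scheme.{u})), (∃ l, l ≫ z = v) ↔
        (FlatC f F (v ≫ V.ι) ∧ ∀ t, hilRel f L F hL hF ((v ≫ V.ι) t) = Q) := by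
  let j := hV.fromSpec
  let fst := pullback.fst f j
  let fV := pullback.snd f j
  obtain ⟨S₀, X₀, ρ, f₀, q, L₀, F₀, hN, hS, hp, sq, hL₀, hF₀, ⟨eL⟩, ⟨eF⟩⟩ :=
    exists_model_amp fV (AmpleX.isRelAmple_baseChange f j hA)
      (LimModLib.isFP_pullback fst (QCoh.isQCoh_of_isFP hF) hF)
  haveI := hN; haveI := hS; haveI := hp
  haveI : IsLocallyNoetherian X₀ := LocallyOfFiniteType.isLocallyNoetherian f₀
  have hF₀' : CohB1.IsFP F₀ := QCoh.isCoh_iff_isFP.1 hF₀
  obtain ⟨Z₀, z₀, hz₀, hzu⟩ := (localStrata_top f₀ L₀ F₀ hL₀.1 hF₀' hL₀ hF₀).strata Q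
  haveI := hz₀
  let z₁ : Z₀ ⟶ S₀ := z₀ ≫ (⊤ : S₀.Opens).ι
  haveI : IsImmersion z₁ := inferInstanceAs (IsImmersion (z₀ ≫ (⊤ : S₀.Opens).ι))
  haveI : NoetherianSpace Z₀ := z₁.isEmbedding.isInducing.noetherianSpace
  haveI : QuasiCompact z₁ := inferInstance
  haveI : LocallyOfFinitePresentation z₁ :=
    LocallyOfFinitePresentation.iff_locallyOfFiniteType.2 inferInstance
  let σ : (V : Scheme.{u}) ⟶ S₀ := hV.isoSpec.hom ≫ ρ
  refine ⟨pullback z₁ σ, pullback.snd z₁ σ, MorphismProperty.pullback_snd _ _ ‹IsImmersion z₁›,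
    MorphismProperty.pullback_snd _ _ ‹QuasiCompact z₁›,
    MorphismProperty.pullback_snd _ _ ‹LocallyOfFinitePresentation z₁›, fun T v => ?_⟩
  have hval : ∀ x : V, hilRel f L F hL hF x.1 = hilRel f₀ L₀ F₀ hL₀.1 hF₀' (σ x) := fun x => by
    let t := hV.isoSpec.hom x
    have ht : j t = x.1 := by
      show hV.fromSpec (hV.isoSpec.hom x) = x.1
      rw [← hV.isoSpec_inv_ι, ← Scheme.Hom.comp_apply, Iso.hom_inv_id_assoc]
      rfl
    show hilRel f L F hL hF x.1 = hilRel f₀ L₀ F₀ hL₀.1 hF₀' (ρ t)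
    rw [hilRel_eq_iff]
    intro n
    rw [← hilRel_spec f₀ L₀ F₀ hL₀.1 hF₀', ← ht,
      ← chiFib_bc f L F (IsPullback.of_hasPullback f j) (Iso.refl _) (Iso.refl _) hL hF t n,
      chiFib_bc f₀ L₀ F₀ sq eL eF hL₀.1 hF₀' t n]
  have hflat : FlatC f F (v ≫ V.ι) ↔ FlatC f₀ F₀ (v ≫ σ) := by
    have h1 := flatC_base (QCoh.isQCoh_of_isFP hF) (IsPullback.of_hasPullback f j) (v ≫ hV.isoSpec.hom)
    have h2 := flatC_base hF₀.1 sq (v ≫ hV.isoSpec.hom)
    have h3 : (v ≫ hV.isoSpec.hom) ≫ j = v ≫ V.ι := by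
      rw [show j = hV.isoSpec.inv ≫ V.ι from hV.isoSpec_inv_ι.symm, Category.assoc, Iso.hom_inv_id_assoc]
    rw [h3] at h1
    rw [← h1, ← Category.assoc v, ← h2]
    exact ⟨LimModLib.isFlatOver_of_iso _ ((Scheme.Modules.pullback _).mapIso eF.symm),
      LimModLib.isFlatOver_of_iso _ ((Scheme.Modules.pullback _).mapIso eF)⟩
  have hσ : (v ≫ σ ≫ S₀.topIso.inv) ≫ (⊤ : S₀.Opens).ι = v ≫ σ := by
    rw [Category.assoc, Category.assoc]
    exact congrArg (fun w => v ≫ w) ((congrArg (σ ≫ ·) S₀.topIso.inv_hom_id).trans (Category.comp_id _))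
  have h1 := hzu (v ≫ σ ≫ S₀.topIso.inv)
  rw [hσ, ← hflat] at h1
  refine Iff.trans ⟨fun ⟨l, hl⟩ => ⟨l ≫ pullback.fst z₁ σ, ?_⟩, fun ⟨l, hl⟩ => ?_⟩
    (h1.trans (and_congr_right' (forall_congr' fun t => Iff.of_eq (congrArg (· = Q) (hval (v t)).symm))))
  · rw [← cancel_mono (⊤ : S₀.Opens).ι, hσ, Category.assoc, Category.assoc]
    exact (congrArg (l ≫ ·) pullback.condition).trans
      ((Category.assoc _ _ _).symm.trans (congrArg (· ≫ σ) hl))
  · exact ⟨pullback.lift l v (by rw [show l ≫ z₁ = (l ≫ z₀) ≫ (⊤ : S₀.Opens).ι from (Category.assoc _ _ _).symm, hl, hσ]),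
      pullback.lift_snd _ _ _⟩

/-- The strata are immersions of finite presentation. -/
theorem exists_stratum_fp (hA : RelAmple.IsRelAmple f L) (Q : Polynomial ℚ) :
    ∃ (W : Scheme.{u}) (j : W ⟶ S), IsImmersion j ∧ QuasiCompact j ∧ LocallyOfFinitePresentation j ∧
      (∀ ⦃T : Scheme.{u}⦄ (φ : T ⟶ S),
        (∃ l, l ≫ j = φ) ↔ (FlatC f F φ ∧ ∀ t, hilRel f L F hL hF (φ t) = Q)) ∧
      Set.range j = {s | hilRel f L F hL hF s = Q} := by
  have hFq := QCoh.isQCoh_of_isFP hF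
  obtain ⟨W, j, hj, hu, hr⟩ := exists_stratum hFq (iSup_affineOpens_eq_top S)
    (fun U : S.affineOpens => localStrata_rel f L F hL hF hA U.2) Q
  haveI := hj
  have key : ∀ (P : MorphismProperty Scheme.{u}), P.RespectsIso → IsZariskiLocalAtTarget P →
      (∀ U : S.affineOpens, ∀ (Z : Scheme.{u}) (z : Z ⟶ (U.1 : Scheme.{u})),
        (∀ ⦃T : Scheme.{u}⦄ (v : T ⟶ (U.1 : Scheme.{u})), (∃ l, l ≫ z = v) ↔
          (FlatC f F (v ≫ U.1.ι) ∧ ∀ t, hilRel f L F hL hF ((v ≫ U.1.ι) t) = Q)) → Mono z → P z → P (j ∣_ U.1)) := by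
    intro P hPiso _ U Z z hz hm hPz
    haveI := hm
    obtain ⟨a, ha⟩ := (hz (j ∣_ U.1)).2 (by
      rw [morphismRestrict_ι]
      exact (hu _).1 ⟨(j ⁻¹ᵁ U.1).ι, rfl⟩)
    obtain ⟨b₀, hb₀⟩ := (hu (z ≫ U.1.ι)).2 ((hz z).1 ⟨𝟙 Z, Category.id_comp _⟩)
    have hc := isPullback_morphismRestrict j U.1
    let b : Z ⟶ (j ⁻¹ᵁ U.1 : Scheme.{u}) := hc.lift z b₀ hb₀.symm
    have hb : b ≫ (j ∣_ U.1) = z := hc.lift_fst _ _ _
    haveI : IsIso a := ⟨b, by rw [← cancel_mono (j ∣_ U.1), Category.assoc, hb, ha, Category.id_comp],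
      by rw [← cancel_mono z, Category.assoc, ha, hb, Category.id_comp]⟩
    rw [← ha]
    exact (MorphismProperty.cancel_left_of_respectsIso P a z).2 hPz
  refine ⟨W, j, hj, ?_, ?_, hu, hr⟩
  · refine IsZariskiLocalAtTarget.of_iSup_eq_top (P := @QuasiCompact) (fun U : S.affineOpens => U.1)
      (iSup_affineOpens_eq_top S) fun U => ?_
    obtain ⟨Z, z, hz, hq, hp, hzu⟩ := exists_stratum_fp_local f L F hL hF hA U.2 Q
    exact key @QuasiCompact inferInstance inferInstance U Z z hzu inferInstance hq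
  · refine IsZariskiLocalAtTarget.of_iSup_eq_top (P := @LocallyOfFinitePresentation) (fun U : S.affineOpens => U.1)
      (iSup_affineOpens_eq_top S) fun U => ?_
    obtain ⟨Z, z, hz, hq, hp, hzu⟩ := exists_stratum_fp_local f L F hL hF hA U.2 Q
    exact key @LocallyOfFinitePresentation inferInstance inferInstance U Z z hzu inferInstance hp

/-- Over a reduced base, locally constant Hilbert polynomials force flatness. -/
theorem flatC_id_of_locallyConstant [IsReduced S] (hA : RelAmple.IsRelAmple f L)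
    (h : IsLocallyConstant (hilRel f L F hL hF)) : FlatC f F (𝟙 S) := by
  have hFq := QCoh.isQCoh_of_isFP hF
  let U : Polynomial ℚ → S.Opens := fun Q => ⟨hilRel f L F hL hF ⁻¹' {Q}, h.isOpen_fiber Q⟩
  refine flatC_of_cover hFq (fun Q => (U Q).ι) (fun s => ⟨hilRel f L F hL hF s, ⟨s, rfl⟩, rfl⟩) (𝟙 S) fun Q => ?_
  rw [Category.comp_id]
  obtain ⟨W, j, hj, hu, hr⟩ := exists_stratum hFq (iSup_affineOpens_eq_top S)
    (fun V : S.affineOpens => localStrata_rel f L F hL hF hA V.2) Q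
  haveI := hj
  haveI : IsReduced (U Q : Scheme.{u}) := isReduced_of_isOpenImmersion (U Q).ι
  haveI : Surjective (j ∣_ U Q) := ⟨fun s => by
    obtain ⟨w, hw⟩ := hr.symm.le (show s.1 ∈ {t | hilRel f L F hL hF t = Q} from s.2)
    refine ⟨⟨w, show j w ∈ U Q from hw ▸ s.2⟩, Subtype.ext ?_⟩
    rw [show ((j ∣_ U Q) ⟨w, _⟩).1 = j w from morphismRestrict_base_coe j (U Q) _, hw]⟩
  haveI : IsImmersion (j ∣_ U Q) := IsZariskiLocalAtTarget.restrict hj _
  haveI : IsClosedImmersion (j ∣_ U Q) :=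
    IsClosedImmersion.of_isPreimmersion _ (by rw [(j ∣_ U Q).surjective.range_eq]; exact isClosed_univ)
  haveI := isIso_of_isClosedImmersion_of_surjective (j ∣_ U Q)
  exact ((hu _).1 ⟨inv (j ∣_ U Q) ≫ (j ⁻¹ᵁ U Q).ι,
    by rw [Category.assoc, ← morphismRestrict_ι, IsIso.inv_hom_id_assoc]⟩).1

end Groth.Agent.FlatG
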