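import Groth.Agent.FlatG.Uniform
import Groth.Agent.HilbStrat6.Basic

/-!
# The flattening strata of a graded module
-/

set_option autoImplicit false
set_option linter.style.haveILetI false

universe u

open TensorProduct

namespace Groth.Agent.FlatG

variable {R : Type u} [CommRing R] {r : ℕ}

/-- A uniform bound for the fibres. -/
structure Bound (S : Sys R r) where
  N : ℕ
  Q : Finset (PrimeSpectrum R)
  inj : ∀ (q : PrimeSpectrum R), ∀ d, N ≤ d → Function.Injective ((S.bc q.asIdeal.ResidueField).psi d)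
  rep : ∀ q : PrimeSpectrum R, ∃ q₀ ∈ Q, ∀ d, S.hdim q d = S.hdim q₀ d
  sep : ∀ q q' : PrimeSpectrum R, (∃ M, ∀ d, M ≤ d → S.hdim q d = S.hdim q' d) →
    ∀ d, N ≤ d → S.hdim q d = S.hdim q' d

theorem exists_bound [IsNoetherianRing R] (S : Sys R r) : Nonempty (Bound S) := by
  classical
  obtain ⟨N, Q, hinj, hrep⟩ := S.exists_bound_of_noetherian
  have h : ∀ p : PrimeSpectrum R × PrimeSpectrum R, ∃ M, (∃ M', ∀ d, M' ≤ d → S.hdim p.1 d = S.hdim p.2 d) →
      ∀ d, M ≤ d → S.hdim p.1 d = S.hdim p.2 d := fun p => by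
    by_cases hp : ∃ M', ∀ d, M' ≤ d → S.hdim p.1 d = S.hdim p.2 d
    · exact ⟨hp.choose, fun _ => hp.choose_spec⟩
    · exact ⟨0, fun h => absurd h hp⟩
  choose M hM using h
  refine ⟨⟨max N ((Q ×ˢ Q).sup M), Q, fun q d hd => hinj q d (le_of_max_le_left hd), hrep, fun q q' hqq' d hd => ?_⟩⟩
  obtain ⟨q₀, hq₀, h₀⟩ := hrep q
  obtain ⟨q₁, hq₁, h₁⟩ := hrep q'
  rw [h₀, h₁]
  refine hM (q₀, q₁) ?_ d ?_
  · obtain ⟨M', hM'⟩ := hqq'
    exact ⟨M', fun e he => by rw [← h₀, ← h₁]; exact hM' e he⟩
  · exact ((Finset.le_sup (f := M) (Finset.mem_product.2 ⟨hq₀, hq₁⟩)).trans (le_max_right N _)).trans hd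

namespace Col

variable {S : Sys R r} (c : Col S)

/-- Base change of the values on the standard opens. -/
noncomputable def bc (A : Type u) [CommRing A] [Algebra R A] : Col (S.bc A) where
  C i := A ⊗[R] c.C i
  γ i d := (c.γ i d).baseChange A
  step i d := by
    show ((c.γ i (d + 1)).baseChange A).comp ((S.mu i d).baseChange A) = _
    rw [← LinearMap.baseChange_comp, c.step]
  surj i z := c.surj_bc A i z
  kill i d x hx := c.kill_bc A i d x hx

/-- A union of flat pieces is flat. -/
theorem flat_of_pieces {N : ℕ} (hN : ∀ d, N ≤ d → Module.Flat R (S.E d)) (i : Fin r) : Module.Flat R (c.C i) := by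
  rw [Module.Flat.iff_lTensor_injective']
  intro I
  rw [injective_iff_map_eq_zero]
  suffices key : ∀ (k e : ℕ) (x : S.E e ⊗[R] I), N ≤ e →
      S.KilledIn i k e (TensorProduct.rid R _ (I.subtype.lTensor (S.E e) x)) → (c.γ i e).rTensor I x = 0 by
    intro z hz
    obtain ⟨e, he, x, rfl⟩ : ∃ e, N ≤ e ∧ ∃ x, (c.γ i e).rTensor I x = z := by
      clear hz
      induction z using TensorProduct.induction_on with
      | zero => exact ⟨N, le_rfl, 0, map_zero _⟩
      | tmul m a =>
        obtain ⟨e, y, rfl⟩ := c.surj i m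
        refine ⟨e + N, Nat.le_add_left _ _, S.pw i N e y ⊗ₜ a, ?_⟩
        rw [LinearMap.rTensor_tmul, ← LinearMap.comp_apply, c.γ_pw]
      | add z z' h h' =>
        obtain ⟨e, he, x, rfl⟩ := h
        obtain ⟨e', he', x', rfl⟩ := h'
        have h1 : ∀ (a b : ℕ), a ≤ b → ∀ w : S.E a ⊗[R] I, ∃ w', (c.γ i b).rTensor I w' = (c.γ i a).rTensor I w := by
          intro a b hle w
          obtain ⟨k, rfl⟩ := Nat.exists_eq_add_of_le hle
          exact ⟨(S.pw i k a).rTensor I w, by rw [← LinearMap.comp_apply, ← LinearMap.rTensor_comp, c.γ_pw]⟩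
        obtain ⟨y, hy⟩ := h1 e (e + e') (by omega) x
        obtain ⟨y', hy'⟩ := h1 e' (e + e') (by omega) x'
        exact ⟨e + e', by omega, y + y', by rw [map_add, hy, hy']⟩
    have h0 : c.γ i e (TensorProduct.rid R _ (I.subtype.lTensor (S.E e) x)) =
        TensorProduct.rid R _ (I.subtype.lTensor (c.C i) ((c.γ i e).rTensor I x)) := by
      clear hz
      induction x using TensorProduct.induction_on with
      | zero => simp
      | tmul m a => simp
      | add a b ha hb => simp only [map_add, ha, hb]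
    rw [hz, map_zero] at h0
    obtain ⟨k, hk⟩ := c.kill i e _ h0
    exact key k e x he hk
  intro k
  induction k with
  | zero =>
    intro e x he hx
    haveI := hN e he
    have h1 : I.subtype.lTensor (S.E e) x = 0 := (TensorProduct.rid R _).injective (by rw [map_zero]; exact hx)
    rw [show x = 0 from Module.Flat.lTensor_preserves_injective_linearMap I.subtype Subtype.val_injective
      (by rw [map_zero]; exact h1), map_zero]
  | succ k ih =>
    intro e x he hx
    have h2 : ∀ w : S.E e ⊗[R] I, S.mu i e (TensorProduct.rid R _ (I.subtype.lTensor (S.E e) w)) =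
        TensorProduct.rid R _ (I.subtype.lTensor (S.E (e + 1)) ((S.mu i e).rTensor I w)) := fun w => by
      induction w using TensorProduct.induction_on with
      | zero => simp
      | tmul m a => simp
      | add a b ha hb => simp only [map_add, ha, hb]
    have h3 := ih (e + 1) ((S.mu i e).rTensor I x) (by omega) (by rw [← h2]; exact hx)
    rwa [← LinearMap.comp_apply, ← LinearMap.rTensor_comp, c.step] at h3

variable (B : Bound S)

include B in
theorem injective_psi_prime {A : Type u} [CommRing A] [Algebra R A] (P : PrimeSpectrum A) {d : ℕ} (hd : B.N ≤ d) :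
    Function.Injective ((S.bc P.asIdeal.ResidueField).psi d) := by
  let q := P.comap (algebraMap R A)
  letI : Algebra q.asIdeal.ResidueField P.asIdeal.ResidueField :=
    (Ideal.ResidueField.map q.asIdeal P.asIdeal (algebraMap R A) rfl).toAlgebra
  haveI : IsScalarTower R q.asIdeal.ResidueField P.asIdeal.ResidueField :=
    IsScalarTower.of_algebraMap_eq fun x => by
      rw [RingHom.algebraMap_toAlgebra, Ideal.ResidueField.map_algebraMap, IsScalarTower.algebraMap_apply R A]
  rw [Sys.injective_psi_bc_iff]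
  refine injective_baseChange_tower (A := q.asIdeal.ResidueField) (S.psi d) ?_
  exact Module.Flat.lTensor_preserves_injective_linearMap _ ((S.injective_psi_bc_iff _ d).1 (B.inj q d hd))

include B in
/-- The values on the standard opens are flat exactly when the pieces are, in degrees beyond the bound. -/
theorem flat_iff (A : Type u) [CommRing A] [Algebra R A] :
    (∀ i, Module.Flat A (A ⊗[R] c.C i)) ↔ ∀ d, B.N ≤ d → Module.Flat A (A ⊗[R] S.E d) := by
  refine ⟨fun h d hd => ?_, fun h i => (c.bc A).flat_of_pieces h i⟩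
  haveI := h
  haveI := S.finite_E d
  haveI : Module.Flat A (∀ i, A ⊗[R] c.C i) :=
    Module.Flat.of_linearEquiv (DirectSum.linearEquivFunOnFintype A (Fin r) fun i => A ⊗[R] c.C i).symm
  haveI : Module.Flat A (A ⊗[R] ∀ i, c.C i) := Module.Flat.of_linearEquiv (TensorProduct.piRight R A A c.C)
  refine flat_of_injective_residue ((c.Gam d).baseChange A) fun P => ?_
  let K := P.asIdeal.ResidueField
  have h1 := c.injective_Gam (A := K) (N := B.N) (fun e he => injective_psi_prime B P he) hd
  let eM := AlgebraTensorModule.cancelBaseChange R A K K (S.E d)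
  let eN := AlgebraTensorModule.cancelBaseChange R A K K (∀ i, c.C i)
  have hcomm : ∀ z, eN (((c.Gam d).baseChange A).lTensor K z) = (c.Gam d).baseChange K (eM z) := fun z => by
    induction z using TensorProduct.induction_on with
    | zero => simp only [map_zero]
    | add a b ha hb => simp only [map_add, ha, hb]
    | tmul a w =>
      induction w using TensorProduct.induction_on with
      | zero => simp only [TensorProduct.tmul_zero, map_zero]
      | add w w' hw hw' => simp only [TensorProduct.tmul_add, map_add, hw, hw']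
      | tmul b m => simp [eM, eN]
  intro x y hxy
  have h2 := congrArg eN hxy
  rw [hcomm, hcomm] at h2
  exact eM.injective (h1 h2)

end Col

namespace Bound

variable {S : Sys R r} (B : Bound S)

/-- The ideal of the locus where the dimensions are at least `h`. -/
noncomputable def aI (h : ℕ → ℕ) : Ideal R :=
  ⨆ (d : ℕ) (_ : B.N ≤ d) (k : ℕ) (_ : k < h d), Fitt.ideal R (S.E d) k

theorem fitt_le_iff (q : PrimeSpectrum R) (d k : ℕ) : Fitt.ideal R (S.E d) k ≤ q.asIdeal ↔ k < S.hdim q d := by
  haveI := S.finite_E d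
  rw [← not_iff_not, not_lt]
  exact FittX.not_le_iff_fiber (S.E d) k q.asIdeal

theorem aI_le_iff (h : ℕ → ℕ) (q : PrimeSpectrum R) :
    B.aI h ≤ q.asIdeal ↔ ∀ d, B.N ≤ d → h d ≤ S.hdim q d := by
  simp only [aI, iSup_le_iff, fitt_le_iff]
  exact ⟨fun H d hd => le_of_forall_lt fun k hk => H d hd k hk, fun H d hd k hk => lt_of_lt_of_le hk (H d hd)⟩

theorem zeroLocus_aI (h : ℕ → ℕ) :
    PrimeSpectrum.zeroLocus (B.aI h : Set R) = {q | ∀ d, B.N ≤ d → h d ≤ S.hdim q d} := by
  ext q
  exact B.aI_le_iff h q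

variable [IsNoetherianRing R]

/-- The stratum of a fibre dimension function. -/
theorem exists_stratum (c : Col S) (h : ℕ → ℕ) :
    ∃ b : Ideal R, ∀ (A : Type u) [CommRing A] [Algebra R A],
      ((∀ i, Module.Flat A (A ⊗[R] c.C i)) ∧
        ∀ (P : PrimeSpectrum A) (d : ℕ), B.N ≤ d → S.hdim (P.comap (algebraMap R A)) d = h d) ↔
      ((B.aI h).map (algebraMap R A) = ⊥ ∧ b.map (algebraMap R A) = ⊤) := by
  classical
  let bad := B.Q.filter fun q => ∃ d, B.N ≤ d ∧ S.hdim q d ≠ h d
  have hbad : ∀ q ∈ bad, ∃ d, B.N ≤ d ∧ S.hdim q d ≠ h d := fun q hq => (Finset.mem_filter.1 hq).2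
  choose! dd hdd using hbad
  let b : Ideal R := bad.inf fun q => Fitt.ideal R (S.E (dd q)) (h (dd q))
  refine ⟨b, fun A _ _ => ?_⟩
  rw [c.flat_iff B A]
  haveI := fun d => S.finite_E d
  haveI : ∀ d, Module.FinitePresentation R (S.E d) := fun d => Module.finitePresentation_of_finite R _
  have hF : ∀ d k, Fitt.ideal A (A ⊗[R] S.E d) k = (Fitt.ideal R (S.E d) k).map (algebraMap R A) := fun d k =>
    FittX.ideal_baseChange (TensorProduct.isBaseChange R (S.E d) A) k
  have hrk : ∀ d (_ : Module.Flat A (A ⊗[R] S.E d)) (P : PrimeSpectrum A),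
      Module.rankAtStalk (A ⊗[R] S.E d) P = S.hdim (P.comap (algebraMap R A)) d := fun d _ P => by
    rw [Module.rankAtStalk_eq, ← S.hdim_comap P d]
  constructor
  · rintro ⟨hfl, hh⟩
    have hc : ∀ d, B.N ≤ d → (∀ k, k < h d → Fitt.ideal A (A ⊗[R] S.E d) k = ⊥) ∧
        (∀ k, h d ≤ k → Fitt.ideal A (A ⊗[R] S.E d) k = ⊤) := fun d hd => by
      haveI := hfl d hd
      exact (HilbStrat6.projective_rank_iff_fitt _ (h d)).1
        ⟨Module.Flat.projective_of_finitePresentation, fun P => (hrk d (hfl d hd) P).trans (hh P d hd)⟩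
    refine ⟨?_, ?_⟩
    · simp only [aI, Ideal.map_iSup, iSup_eq_bot, ← hF]
      exact fun d hd k hk => (hc d hd).1 k hk
    · by_contra hne
      obtain ⟨m, hm, hle⟩ := Ideal.exists_le_maximal _ hne
      rw [Ideal.map_le_iff_le_comap] at hle
      obtain ⟨q, hq, hqle⟩ := (Ideal.IsPrime.inf_le' (hm.isPrime.comap _)).1 hle
      rw [← Ideal.map_le_iff_le_comap, ← hF, (hc _ (hdd q hq).1).2 _ le_rfl] at hqle
      exact hm.ne_top (top_le_iff.1 hqle)
  · rintro ⟨ha, hb⟩
    have hh : ∀ (P : PrimeSpectrum A) (d : ℕ), B.N ≤ d → S.hdim (P.comap (algebraMap R A)) d = h d := by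
      intro P d hd
      let q := P.comap (algebraMap R A)
      have hge := (B.aI_le_iff h q).1 (Ideal.map_le_iff_le_comap.1 (ha.le.trans bot_le))
      obtain ⟨q₀, hq₀, hq₀h⟩ := B.rep q
      by_contra hne
      have hq : q₀ ∈ bad := Finset.mem_filter.2 ⟨hq₀, d, hd, by rw [← hq₀h]; exact hne⟩
      have h1 : Fitt.ideal R (S.E (dd q₀)) (h (dd q₀)) ≤ q.asIdeal := by
        rw [fitt_le_iff]
        refine lt_of_le_of_ne (hge _ (hdd q₀ hq).1) (Ne.symm ?_)
        rw [hq₀h]
        exact (hdd q₀ hq).2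
      have h2 : b ≤ q.asIdeal := le_trans (Finset.inf_le hq) h1
      have h3 : b.map (algebraMap R A) ≤ P.asIdeal := Ideal.map_le_iff_le_comap.2 h2
      rw [hb, top_le_iff] at h3
      exact P.isPrime.ne_top h3
    refine ⟨fun d hd => ?_, hh⟩
    have hc : (∀ k, k < h d → Fitt.ideal A (A ⊗[R] S.E d) k = ⊥) ∧
        (∀ k, h d ≤ k → Fitt.ideal A (A ⊗[R] S.E d) k = ⊤) := by
      refine ⟨fun k hk => ?_, fun k hk => ?_⟩
      · rw [hF, eq_bot_iff, ← ha]
        exact Ideal.map_mono (le_iSup_of_le d (le_iSup_of_le hd (le_iSup₂_of_le k hk le_rfl)))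
      · by_contra hne
        obtain ⟨m, hm, hle⟩ := Ideal.exists_le_maximal _ hne
        have h1 : Fitt.ideal R (S.E d) k ≤ (PrimeSpectrum.comap (algebraMap R A) ⟨m, hm.isPrime⟩).asIdeal :=
          Ideal.map_le_iff_le_comap.1 (by rw [← hF]; exact hle)
        rw [fitt_le_iff, hh ⟨m, hm.isPrime⟩ d hd] at h1
        omega
    haveI := ((HilbStrat6.projective_rank_iff_fitt _ (h d)).2 hc).1
    exact Module.Flat.of_projective

end Bound

end Groth.Agent.FlatG
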