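import Groth.Agent.FlatG.Crit
import Mathlib.Algebra.MvPolynomial.Eval
import Mathlib.RingTheory.Polynomial.Basic
import Mathlib.Algebra.DirectSum.Module
import Mathlib.LinearAlgebra.TensorProduct.Pi

/-!
# Graded modules over a polynomial ring, given by their pieces and the multiplication maps
-/

set_option autoImplicit false
set_option linter.style.haveILetI false

universe u

open TensorProduct DirectSum

namespace Groth.Agent.FlatG

/-- The pieces of a graded module over `R[x₁, …, x_r]`, generated in degree zero by finitely many elements. -/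
structure Sys (R : Type u) [CommRing R] (r : ℕ) where
  E : ℕ → Type u
  [grp : ∀ d, AddCommGroup (E d)]
  [mod : ∀ d, Module R (E d)]
  mu : Fin r → ∀ d, E d →ₗ[R] E (d + 1)
  comm : ∀ i j d, (mu i (d + 1)).comp (mu j d) = (mu j (d + 1)).comp (mu i d)
  fin : Module.Finite R (E 0)
  gen : ∀ d, (⨆ i, LinearMap.range (mu i d)) = ⊤

attribute [instance] Sys.grp Sys.mod

variable {R : Type u} [CommRing R] {r : ℕ}

namespace Sys

variable (S : Sys R r)

theorem finite_E : ∀ d, Module.Finite R (S.E d)
  | 0 => S.fin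
  | d + 1 => by
    haveI := finite_E d
    refine ⟨?_⟩
    rw [← S.gen d]
    exact Submodule.fg_iSup _ fun i => by
      rw [← Submodule.map_top]
      exact Submodule.FG.map _ Module.Finite.fg_top

/-- Multiplication by all the variables. -/
noncomputable def psi (d : ℕ) : S.E d →ₗ[R] (Fin r → S.E (d + 1)) := LinearMap.pi fun i => S.mu i d

/-- Iterated multiplication. -/
noncomputable def pw (i : Fin r) : ∀ (k d : ℕ), S.E d →ₗ[R] S.E (d + k)
  | 0, _ => LinearMap.id
  | k + 1, d => (S.mu i (d + k)).comp (pw i k d)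

theorem pw_succ (i : Fin r) (k d : ℕ) : S.pw i (k + 1) d = (S.mu i (d + k)).comp (S.pw i k d) := rfl

/-- Killed by a power of a variable. -/
def KilledIn (i : Fin r) : ℕ → ∀ d, S.E d → Prop
  | 0, _, x => x = 0
  | k + 1, d, x => KilledIn i k (d + 1) (S.mu i d x)

theorem killedIn_zero (i : Fin r) : ∀ k d, S.KilledIn i k d 0
  | 0, _ => rfl
  | k + 1, d => by
    show S.KilledIn i k (d + 1) (S.mu i d 0)
    rw [map_zero]
    exact killedIn_zero i k (d + 1)

theorem killedIn_mono (i : Fin r) {k l : ℕ} (h : k ≤ l) {d : ℕ} {x : S.E d} (hx : S.KilledIn i k d x) :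
    S.KilledIn i l d x := by
  induction k generalizing d l with
  | zero => rw [show x = 0 from hx]; exact S.killedIn_zero i l d
  | succ k ih =>
    obtain ⟨l, rfl⟩ := Nat.exists_eq_succ_of_ne_zero (show l ≠ 0 by omega)
    exact ih (l := l) (by omega) hx

theorem killedIn_add (i : Fin r) : ∀ {k d : ℕ} {x y : S.E d}, S.KilledIn i k d x → S.KilledIn i k d y →
    S.KilledIn i k d (x + y)
  | 0, _, x, y, hx, hy => by rw [show x = 0 from hx, show y = 0 from hy, add_zero]; rfl
  | k + 1, d, x, y, hx, hy => by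
    show S.KilledIn i k (d + 1) (S.mu i d (x + y))
    rw [map_add]
    exact killedIn_add i hx hy

theorem killedIn_of_pw (i : Fin r) : ∀ (k : ℕ) {j d : ℕ} {x : S.E d}, S.KilledIn i j (d + k) (S.pw i k d x) →
    S.KilledIn i (k + j) d x
  | 0, j, d, x, h => by rw [Nat.zero_add]; exact h
  | k + 1, j, d, x, h => by
    rw [show k + 1 + j = k + (j + 1) by omega]
    exact killedIn_of_pw i k (j := j + 1) h

theorem killedIn_mu (i j : Fin r) : ∀ (k : ℕ) {d : ℕ} {x : S.E d}, S.KilledIn j k d x →
    S.KilledIn j k (d + 1) (S.mu i d x)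
  | 0, _, x, h => by
    show S.mu i _ x = 0
    rw [show x = 0 from h, map_zero]
  | k + 1, d, x, h => by
    show S.KilledIn j k (d + 1 + 1) (S.mu j (d + 1) (S.mu i d x))
    rw [show S.mu j (d + 1) (S.mu i d x) = S.mu i (d + 1) (S.mu j d x) from LinearMap.congr_fun (S.comm j i d) x]
    exact killedIn_mu i j k h

/-- An element killed by powers of all the variables vanishes, when the variables are jointly injective. -/
theorem eq_zero_of_killedIn {N : ℕ} (hN : ∀ d, N ≤ d → Function.Injective (S.psi d)) :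
    ∀ (n : ℕ) (k : Fin r → ℕ), (∑ i, k i) ≤ n → ∀ d, N ≤ d → ∀ x : S.E d,
      (∀ i, S.KilledIn i (k i) d x) → x = 0 := by
  intro n
  induction n with
  | zero =>
    intro k hk d hd x hx
    refine hN d hd (funext fun i => ?_)
    have h0 : k i = 0 := by
      have := Finset.single_le_sum (f := k) (fun _ _ => Nat.zero_le _) (Finset.mem_univ i)
      omega
    have h1 := hx i
    rw [h0] at h1
    show S.mu i d x = S.mu i d 0
    rw [show x = 0 from h1]
  | succ n ih =>
    intro k hk d hd x hx
    refine hN d hd (funext fun i => ?_)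
    show S.mu i d x = S.mu i d 0
    rw [map_zero]
    rcases Nat.eq_zero_or_pos (k i) with h0 | h0
    · have h1 := hx i
      rw [h0] at h1
      rw [show x = 0 from h1, map_zero]
    obtain ⟨l, hl⟩ : ∃ l, k i = l + 1 := ⟨k i - 1, by omega⟩
    refine ih (Function.update k i l) ?_ (d + 1) (by omega) _ fun j => ?_
    · rw [Finset.sum_update_of_mem (Finset.mem_univ i)]
      have := Finset.add_sum_erase Finset.univ k (Finset.mem_univ i)
      rw [Finset.sdiff_singleton_eq_erase]
      omega
    · by_cases hji : j = i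
      · subst hji
        have h1 := hx j
        rw [hl] at h1
        rw [Function.update_self]
        exact h1
      · rw [Function.update_of_ne hji]
        exact S.killedIn_mu i j (k j) (hx j)
/-- Base change. -/
noncomputable def bc (A : Type u) [CommRing A] [Algebra R A] : Sys A r where
  E d := A ⊗[R] S.E d
  mu i d := (S.mu i d).baseChange A
  comm i j d := by rw [← LinearMap.baseChange_comp, S.comm, LinearMap.baseChange_comp]
  fin := by
    haveI := S.fin
    infer_instance
  gen d := by
    refine eq_top_iff.2 fun x hxtop => ?_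
    clear hxtop
    induction x using TensorProduct.induction_on with
    | zero => exact zero_mem _
    | add a b ha hb => exact add_mem ha hb
    | tmul a m =>
      have hm : m ∈ ⨆ i, LinearMap.range (S.mu i d) := by rw [S.gen d]; trivial
      refine Submodule.iSup_induction _ (motive := fun m => a ⊗ₜ[R] m ∈
        ⨆ i, LinearMap.range ((S.mu i d).baseChange A)) hm ?_ ?_ ?_
      · rintro i _ ⟨y, rfl⟩
        exact Submodule.mem_iSup_of_mem i ⟨a ⊗ₜ y, LinearMap.baseChange_tmul _ _ _⟩
      · rw [TensorProduct.tmul_zero]; exact zero_mem _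
      · intro y z hy hz; rw [TensorProduct.tmul_add]; exact add_mem hy hz

theorem pw_bc (A : Type u) [CommRing A] [Algebra R A] (i : Fin r) : ∀ (k d : ℕ),
    (S.bc A).pw i k d = (S.pw i k d).baseChange A
  | 0, d => LinearMap.baseChange_id.symm
  | k + 1, d => by rw [Sys.pw_succ, Sys.pw_succ, pw_bc A i k d, LinearMap.baseChange_comp]; rfl

theorem killedIn_tmul (A : Type u) [CommRing A] [Algebra R A] (i : Fin r) (a : A) :
    ∀ (j : ℕ) {d : ℕ} {x : S.E d}, S.KilledIn i j d x → (S.bc A).KilledIn i j d (a ⊗ₜ[R] x)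
  | 0, d, x, h => by
    show a ⊗ₜ[R] x = 0
    rw [show x = 0 from h, TensorProduct.tmul_zero]
  | j + 1, d, x, h => by
    show (S.bc A).KilledIn i j (d + 1) ((S.mu i d).baseChange A (a ⊗ₜ[R] x))
    rw [LinearMap.baseChange_tmul]
    exact killedIn_tmul A i a j h

/-! ### The total module -/

/-- The sum of all the pieces. -/
def M : Type u := ⨁ d, S.E d

noncomputable instance : AddCommGroup S.M := inferInstanceAs (AddCommGroup (⨁ d, S.E d))
noncomputable instance : Module R S.M := inferInstanceAs (Module R (⨁ d, S.E d))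

/-- The inclusion of a piece. -/
noncomputable def inc (d : ℕ) : S.E d →ₗ[R] S.M := DirectSum.lof R ℕ S.E d

/-- The projection to a piece. -/
noncomputable def prj (d : ℕ) : S.M →ₗ[R] S.E d := DirectSum.component R ℕ S.E d

theorem prj_inc (d : ℕ) (x : S.E d) : S.prj d (S.inc d x) = x := DirectSum.component.lof_self R d x

theorem prj_inc_ne {d e : ℕ} (h : e ≠ d) (x : S.E d) : S.prj e (S.inc d x) = 0 := by
  show DirectSum.component R ℕ S.E e (DirectSum.lof R ℕ S.E d x) = 0
  rw [DirectSum.component.of]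
  simp [Ne.symm h]

theorem ext_M {x y : S.M} (h : ∀ d, S.prj d x = S.prj d y) : x = y := DirectSum.ext_component R h

theorem hom_ext_M {N : Type u} [AddCommGroup N] [Module R N] {f g : S.M →ₗ[R] N}
    (h : ∀ d x, f (S.inc d x) = g (S.inc d x)) : f = g :=
  DirectSum.linearMap_ext R fun d => LinearMap.ext (h d)

/-- The action of a variable. -/
noncomputable def phi (i : Fin r) : Module.End R S.M :=
  DirectSum.toModule R ℕ S.M fun d => (S.inc (d + 1)).comp (S.mu i d)

theorem phi_inc (i : Fin r) (d : ℕ) (x : S.E d) : S.phi i (S.inc d x) = S.inc (d + 1) (S.mu i d x) :=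
  DirectSum.toModule_lof R d x

theorem prj_phi (i : Fin r) (d : ℕ) (x : S.M) : S.prj (d + 1) (S.phi i x) = S.mu i d (S.prj d x) := by
  suffices h : (S.prj (d + 1)).comp (S.phi i) = (S.mu i d).comp (S.prj d) from LinearMap.congr_fun h x
  refine S.hom_ext_M fun e y => ?_
  rw [LinearMap.comp_apply, LinearMap.comp_apply, S.phi_inc]
  by_cases h : e = d
  · subst h; rw [S.prj_inc, S.prj_inc]
  · rw [S.prj_inc_ne (by omega), S.prj_inc_ne (Ne.symm h), map_zero]

theorem phi_comm (i j : Fin r) : S.phi i * S.phi j = S.phi j * S.phi i :=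
  S.hom_ext_M fun d x => by
    rw [Module.End.mul_apply, Module.End.mul_apply, S.phi_inc, S.phi_inc, S.phi_inc, S.phi_inc]
    exact congrArg (S.inc _) (LinearMap.congr_fun (S.comm i j d) x)

open scoped IsMulCommutative in
/-- The action of the polynomial ring. -/
noncomputable def act : MvPolynomial (Fin r) R →ₐ[R] Module.End R S.M :=
  letI := Algebra.isMulCommutative_adjoin R (s := Set.range S.phi)
    (by rintro _ ⟨i, rfl⟩ _ ⟨j, rfl⟩; exact S.phi_comm i j)
  (Algebra.adjoin R (Set.range S.phi)).val.comp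
    (MvPolynomial.aeval fun i => (⟨S.phi i, Algebra.subset_adjoin ⟨i, rfl⟩⟩ : Algebra.adjoin R (Set.range S.phi)))

theorem act_X (i : Fin r) : S.act (MvPolynomial.X i) = S.phi i := by
  simp [act]

noncomputable instance : Module (MvPolynomial (Fin r) R) S.M := Module.compHom _ S.act.toRingHom

theorem smul_eq (p : MvPolynomial (Fin r) R) (x : S.M) : p • x = S.act p x := rfl

instance : IsScalarTower R (MvPolynomial (Fin r) R) S.M :=
  ⟨fun c p x => by rw [smul_eq, smul_eq, map_smul, LinearMap.smul_apply]⟩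

theorem X_smul (i : Fin r) (x : S.M) : (MvPolynomial.X i : MvPolynomial (Fin r) R) • x = S.phi i x := by
  rw [smul_eq, act_X]

instance : Module.Finite (MvPolynomial (Fin r) R) S.M := by
  haveI := S.fin
  obtain ⟨g, hg⟩ := Module.Finite.fg_top (R := R) (M := S.E 0)
  classical
  refine ⟨g.image (S.inc 0), eq_top_iff.2 fun x _ => ?_⟩
  let N := Submodule.span (MvPolynomial (Fin r) R) ((g.image (S.inc 0) : Finset S.M) : Set S.M)
  have hd : ∀ d, LinearMap.range (S.inc d) ≤ N.restrictScalars R := by
    intro d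
    induction d with
    | zero =>
      rw [← Submodule.map_top, ← hg, Submodule.map_span, Submodule.span_le]
      intro y hy
      exact Submodule.subset_span (by rwa [Finset.coe_image])
    | succ d ih =>
      rw [← Submodule.map_top, ← S.gen d, Submodule.map_iSup]
      refine iSup_le fun i => ?_
      rintro _ ⟨_, ⟨y, rfl⟩, rfl⟩
      rw [← S.phi_inc, ← S.X_smul]
      exact N.smul_mem _ (ih ⟨y, rfl⟩)
  show x ∈ N.restrictScalars R
  refine DirectSum.induction_on x (zero_mem _) (fun d y => hd d ⟨y, rfl⟩) fun a b ha hb => add_mem ha hb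

/-- Over a noetherian ring the elements killed by all variables live in bounded degree. -/
theorem exists_psi_injective [IsNoetherianRing R] :
    ∃ N₀, ∀ d, N₀ ≤ d → Function.Injective (S.psi d) := by
  classical
  let K : Submodule (MvPolynomial (Fin r) R) S.M :=
    ⨅ i, LinearMap.ker (DistribSMul.toLinearMap (MvPolynomial (Fin r) R) S.M (MvPolynomial.X i : MvPolynomial (Fin r) R))
  have hK : ∀ x, x ∈ K ↔ ∀ i, S.phi i x = 0 := fun x => by simp [K, X_smul]
  obtain ⟨G, hG⟩ := IsNoetherian.noetherian K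
  obtain ⟨N₀, hN₀⟩ : ∃ N₀, ∀ x ∈ G, ∀ d, N₀ ≤ d → S.prj d x = 0 := by
    have h1 : ∀ x : S.M, ∃ N, ∀ d, N ≤ d → S.prj d x = 0 := fun x => by
      refine ⟨(DFinsupp.support (x : ⨁ d, S.E d)).sup id + 1, fun d hd => ?_⟩
      by_contra hne
      have := Finset.le_sup (f := id) (DFinsupp.mem_support_iff.2 hne)
      simp only [id] at this
      omega
    choose N hN using h1
    exact ⟨G.sup N, fun x hx d hd => hN x d ((Finset.le_sup hx).trans hd)⟩
  have key : ∀ x ∈ K, ∀ d, N₀ ≤ d → S.prj d x = 0 := by
    intro x hx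
    rw [← hG] at hx
    induction hx using Submodule.span_induction with
    | mem y hy => exact hN₀ y hy
    | zero => intro d _; exact map_zero _
    | add a b _ _ ha hb => intro d hd; rw [map_add, ha d hd, hb d hd, add_zero]
    | smul p a ha' ha =>
      rw [hG] at ha'
      induction p using MvPolynomial.induction_on with
      | C c =>
        intro d hd
        rw [← MvPolynomial.algebraMap_eq, algebraMap_smul, map_smul, ha d hd, smul_zero]
      | add p q hp hq => intro d hd; rw [add_smul, map_add, hp d hd, hq d hd, add_zero]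
      | mul_X p i _ =>
        intro d _
        rw [mul_smul, X_smul, (hK a).1 ha' i, smul_zero, map_zero]
  refine ⟨N₀, fun d hd => (injective_iff_map_eq_zero _).2 fun x hx => ?_⟩
  have hmem : S.inc d x ∈ K := (hK _).2 fun i => by
    rw [S.phi_inc, show S.mu i d x = 0 from congrFun hx i, map_zero]
  simpa [S.prj_inc] using key _ hmem d hd

end Sys

/-- The values of the graded module on the standard opens. -/
structure Col (S : Sys R r) where
  C : Fin r → Type u
  [grp : ∀ i, AddCommGroup (C i)]
  [mod : ∀ i, Module R (C i)]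
  γ : ∀ i d, S.E d →ₗ[R] C i
  step : ∀ i d, (γ i (d + 1)).comp (S.mu i d) = γ i d
  surj : ∀ i (c : C i), ∃ d x, γ i d x = c
  kill : ∀ i d (x : S.E d), γ i d x = 0 → ∃ k, S.KilledIn i k d x

attribute [instance] Col.grp Col.mod

namespace Col

variable {S : Sys R r} (c : Col S)

theorem γ_pw (i : Fin r) (d : ℕ) : ∀ k, (c.γ i (d + k)).comp (S.pw i k d) = c.γ i d
  | 0 => LinearMap.comp_id _
  | k + 1 => by rw [Sys.pw_succ, ← LinearMap.comp_assoc, show c.γ i (d + (k + 1)) = c.γ i (d + k + 1) from rfl, c.step, γ_pw i d k]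

theorem range_mono (i : Fin r) {d e : ℕ} (h : d ≤ e) : LinearMap.range (c.γ i d) ≤ LinearMap.range (c.γ i e) := by
  obtain ⟨k, rfl⟩ := Nat.exists_eq_add_of_le h
  rw [← c.γ_pw i d k]
  exact LinearMap.range_comp_le_range _ _

variable (A : Type u) [CommRing A] [Algebra R A]

theorem surj_bc (i : Fin r) (z : A ⊗[R] c.C i) : ∃ d x, (c.γ i d).baseChange A x = z := by
  induction z using TensorProduct.induction_on with
  | zero => exact ⟨0, 0, map_zero _⟩
  | tmul a m =>
    obtain ⟨d, x, rfl⟩ := c.surj i m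
    exact ⟨d, a ⊗ₜ x, LinearMap.baseChange_tmul _ _ _⟩
  | add z z' h h' =>
    obtain ⟨d, x, rfl⟩ := h
    obtain ⟨e, y, rfl⟩ := h'
    refine ⟨d + e, ?_⟩
    have h1 : ∀ (a b : ℕ) (hle : a ≤ b) (w : A ⊗[R] S.E a), ∃ w', (c.γ i b).baseChange A w' = (c.γ i a).baseChange A w := by
      intro a b hle w
      obtain ⟨k, rfl⟩ := Nat.exists_eq_add_of_le hle
      exact ⟨(S.pw i k a).baseChange A w, by rw [← LinearMap.comp_apply, ← LinearMap.baseChange_comp, c.γ_pw]⟩
    obtain ⟨x', hx'⟩ := h1 d (d + e) (by omega) x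
    obtain ⟨y', hy'⟩ := h1 e (d + e) (by omega) y
    exact ⟨x' + y', by rw [map_add, hx', hy']⟩

theorem kill_bc (i : Fin r) (d : ℕ) (x : A ⊗[R] S.E d) (hx : (c.γ i d).baseChange A x = 0) :
    ∃ k, (S.bc A).KilledIn i k d x := by
  haveI := S.finite_E d
  let ρ := (c.γ i d).rangeRestrict
  have h0 : (LinearMap.range (c.γ i d)).subtype.lTensor A (ρ.lTensor A x) = 0 := by
    rw [← LinearMap.comp_apply, ← LinearMap.lTensor_comp]
    exact hx
  obtain ⟨N', hle, hN', h⟩ := exists_fg_lTensor_eq_zero (N := LinearMap.range (c.γ i d))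
    (by rw [← Submodule.map_top]; exact Submodule.FG.map _ Module.Finite.fg_top) h0
  obtain ⟨e, he⟩ : ∃ e, d ≤ e ∧ N' ≤ LinearMap.range (c.γ i e) := by
    classical
    obtain ⟨G, rfl⟩ := hN'
    choose dd xx hdx using fun g : c.C i => c.surj i g
    refine ⟨d + G.sup dd, by omega, Submodule.span_le.2 fun g hg => ?_⟩
    exact c.range_mono i ((Finset.le_sup (f := dd) hg).trans (by omega)) ⟨xx g, hdx g⟩
  obtain ⟨k, rfl⟩ := Nat.exists_eq_add_of_le he.1
  let ρ' := (c.γ i (d + k)).rangeRestrict
  have h2 : ρ'.lTensor A ((S.pw i k d).lTensor A x) = 0 := by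
    have h3 : ρ'.comp (S.pw i k d) =
        ((Submodule.inclusion he.2).comp (Submodule.inclusion hle)).comp ρ := by
      refine LinearMap.ext fun y => Subtype.ext ?_
      exact LinearMap.congr_fun (c.γ_pw i d k) y
    rw [← LinearMap.comp_apply, ← LinearMap.lTensor_comp, h3, LinearMap.lTensor_comp, LinearMap.lTensor_comp,
      LinearMap.comp_apply, LinearMap.comp_apply, h, map_zero]
  obtain ⟨w, hw⟩ := ((lTensor_exact A (LinearMap.exact_subtype_ker_map ρ') (c.γ i (d + k)).surjective_rangeRestrict) _).1 h2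
  have hker : ∀ w : A ⊗[R] LinearMap.ker ρ',
      ∃ j, (S.bc A).KilledIn i j (d + k) ((LinearMap.ker ρ').subtype.lTensor A w) := by
    intro w
    induction w using TensorProduct.induction_on with
    | zero => exact ⟨0, map_zero _⟩
    | tmul a y =>
      obtain ⟨j, hj⟩ := c.kill i (d + k) y.1 (congrArg Subtype.val y.2)
      refine ⟨j, ?_⟩
      exact S.killedIn_tmul A i a j hj
    | add w w' hw hw' =>
      obtain ⟨j, hj⟩ := hw
      obtain ⟨j', hj'⟩ := hw'
      refine ⟨max j j', ?_⟩
      rw [map_add]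
      exact (S.bc A).killedIn_add i ((S.bc A).killedIn_mono i (le_max_left _ _) hj)
        ((S.bc A).killedIn_mono i (le_max_right _ _) hj')
  obtain ⟨j, hj⟩ := hker w
  rw [hw] at hj
  refine ⟨k + j, (S.bc A).killedIn_of_pw i k ?_⟩
  rw [S.pw_bc]
  exact hj

end Col

end Groth.Agent.FlatG
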