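import Groth.Agent.FlatG.Strata
import Groth.Agent.AmpleVan.Vanish
import Groth.Agent.HilbPoly.Pos
import Groth.Agent.QCoh.GodBC
import Groth.Agent.InvX.GenLocusPull

/-!
# The graded module of a coherent sheaf, polarised by sections with affine generating loci
-/

set_option autoImplicit false
set_option linter.style.haveILetI false
set_option backward.isDefEq.respectTransparency false
set_option backward.isDefEq.respectTransparency.types false

universe u

open CategoryTheory AlgebraicGeometry TopologicalSpace Opposite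

attribute [local instance] HasDerivedCategory.standard

noncomputable section

namespace Groth.Agent.FlatG

open Groth.Agent AmpleVan

/-- An invertible module with sections whose generating loci are affine and cover. -/
structure Pol (X : Scheme.{u}) (r : ℕ) where
  L : X.Modules
  inv : PicF.IsInvertible L
  s : Fin r → (Coh.structureModule X ⟶ L)
  affine : ∀ i, IsAffineOpen (CohB1.genLocus L (s i))
  cover : ∀ x : X, ∃ i, x ∈ CohB1.genLocus L (s i)

variable {X : Scheme.{u}} {r : ℕ}

namespace Pol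

variable (P : Pol X r)

/-- The standard opens. -/
abbrev U (i : Fin r) : X.Opens := CohB1.genLocus P.L (P.s i)

/-- The sections. -/
def σ (i : Fin r) : Γ(P.L, ⊤) := InvX.one (P.s i)

/-- The iterated twist. -/
abbrev G (F : X.Modules) (d : ℕ) : X.Modules := (itw P.L d).obj F

theorem isQCoh_G {F : X.Modules} (hF : Coh.IsQCoh F) (d : ℕ) : Coh.IsQCoh (P.G F d) := isQCoh_itw P.inv hF d

/-- Multiplication by a section. -/
abbrev m (F : X.Modules) (i : Fin r) (d : ℕ) : P.G F d ⟶ P.G F (d + 1) := mulSec (P.σ i) (P.G F d)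

theorem m_comm (F : X.Modules) (i j : Fin r) (d : ℕ) :
    P.m F j d ≫ P.m F i (d + 1) = P.m F i d ≫ P.m F j (d + 1) :=
  (twSys P.inv (fun k => InvX.one (P.s k)) F).comm d i j

theorem mulHom_eq (s : Coh.structureModule X ⟶ P.L) (M : X.Modules) :
    HilbPoly.mulHom s M = mulSec (InvX.one s) M := by
  refine QCoh.hom_ext_app fun U t => ?_
  show (((DCoh.tensorBi (X := X)).obj M).map s).app U ((twUnit.inv.app M).app U t) = _
  refine (congrArg ((((DCoh.tensorBi (X := X)).obj M).map s).app U) (unit_inv_app t)).trans ?_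
  refine (KFlatLib.tmSh_naturality_right M s t (show Γ(Coh.structureModule X, U) from (1 : Γ(X, U)))).trans ?_
  refine (congrArg (InvX.tmul t) ?_).trans (mulSec_app _ M U t).symm
  exact (InvX.app_eq_smul s (1 : Γ(X, U))).trans (one_smul _ _)

theorem bijective_m (F : X.Modules) (i : Fin r) (d : ℕ) {V : X.Opens} (hV : V ≤ P.U i) :
    Function.Bijective ((P.m F i d).app V) := by
  haveI : IsIso ((Scheme.Modules.restrictFunctor (P.U i).ι).map (P.s i)) :=
    (InvX.isIso_restrict_iff _ _).2 (AmpleX.res_genLocus_frame (P.s i))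
  have h := HilbPoly.isIso_restrict_mulHom (P.s i) (P.G F d) (U := P.U i)
  rw [P.mulHom_eq] at h
  obtain ⟨W, rfl⟩ : ∃ W, (P.U i).ι ''ᵁ W = V := ⟨(P.U i).ι ⁻¹ᵁ V, by
    rw [Scheme.Hom.image_preimage_eq_opensRange_inf, Scheme.Opens.opensRange_ι]
    exact inf_eq_right.mpr hV⟩
  exact (ConcreteCategory.isIso_iff_bijective _).1 (Scheme.Modules.Hom.isIso_iff_isIso_app.1 h W)

variable (R : Type u) [CommRing R] [X.Over (Spec (CommRingCat.of R))]

/-- Sections as modules over the base ring. -/
@[reducible] def secR (M : X.Modules) (V : X.Opens) : Module R Γ(M, V) :=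
  QCoh.secModule (Coh.toGlobal (X ↘ Spec (CommRingCat.of R))) M V

attribute [local instance] secR

/-- The action of a morphism on sections, linear over the base ring. -/
def appR {M N : X.Modules} (φ : M ⟶ N) (V : X.Opens) :
    Γ(M, V) →ₗ[R] Γ(N, V) :=
  { toFun := φ.app V
    map_add' := map_add _
    map_smul' := fun a x => Scheme.Modules.Hom.app_smul φ _ x }

/-- Restriction, linear over the base ring. -/
def resR' (M : X.Modules) {U V : X.Opens} (h : V ≤ U) :
    Γ(M, U) →ₗ[R] Γ(M, V) :=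
  { toFun := AModX.res M h
    map_add' := map_add _
    map_smul' := fun a x => by
      refine (AModX.res_smul h _ _).trans ?_
      refine congrArg (fun c => c • AModX.res M h x) ?_
      exact QCoh.ringMap_map (homOfLE h) (homOfLE le_top) (Coh.toGlobal (X ↘ Spec (CommRingCat.of R)) a) }

/-- Iterated multiplication on the standard open, as an isomorphism. -/
def pwE (F : X.Modules) (i : Fin r) : ∀ d,
    Γ(F, P.U i) ≃ₗ[R] Γ(P.G F d, P.U i)
  | 0 => LinearEquiv.refl R _
  | d + 1 =>
    (pwE F i d).trans (LinearEquiv.ofBijective (appR R (P.m F i d) (P.U i)) (P.bijective_m F i d le_rfl))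

theorem pwE_succ (F : X.Modules) (i : Fin r) (d : ℕ) (t : Γ(F, P.U i)) :
    P.pwE R F i (d + 1) t = (P.m F i d).app (P.U i) (P.pwE R F i d t) := rfl

theorem pwE_apply (F : X.Modules) (i : Fin r) : ∀ (d : ℕ) (t : Γ(F, P.U i)),
    P.pwE R F i d t = ((pw (P.σ i) d).app F).app (P.U i) t
  | 0, _ => rfl
  | d + 1, t => by
    rw [P.pwE_succ, pwE_apply F i d t, pw_succ]
    rfl

/-- The global sections of all twists are generated in degree zero. -/
structure GenZero (F : X.Modules) : Prop where
  fin : Module.Finite R Γ(F, ⊤)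
  gen : ∀ d, ⨆ i, LinearMap.range (appR R (P.m F i d) (⊤ : X.Opens)) = ⊤

variable (F : X.Modules)

/-- The value of a global section of a twist on a standard open. -/
def gamG (i : Fin r) (d : ℕ) : Γ(P.G F d, ⊤) →ₗ[R] Γ(F, P.U i) :=
  (P.pwE R F i d).symm.toLinearMap.comp (resR' R (P.G F d) (le_top : P.U i ≤ ⊤))

theorem pwE_gamG (i : Fin r) (d : ℕ) (x : Γ(P.G F d, ⊤)) :
    P.pwE R F i d (P.gamG R F i d x) = AModX.res (P.G F d) (le_top : P.U i ≤ ⊤) x := by
  exact (P.pwE R F i d).apply_symm_apply _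

theorem gamG_step (i : Fin r) (d : ℕ) (x : Γ(P.G F d, ⊤)) :
    P.gamG R F i (d + 1) ((P.m F i d).app ⊤ x) = P.gamG R F i d x := by
  refine (P.pwE R F i (d + 1)).injective ?_
  rw [P.pwE_gamG, P.pwE_succ, P.pwE_gamG, AModX.app_res]

/-- Killed by a power of a section. -/
def Killed (i : Fin r) : ℕ → ∀ d, Γ(P.G F d, ⊤) → Prop
  | 0, _, x => x = 0
  | k + 1, d, x => Killed i k (d + 1) ((P.m F i d).app ⊤ x)

theorem killed_of_pw (i : Fin r) : ∀ (k : ℕ) {d : ℕ} (x : Γ(P.G F d, ⊤)),
    ((pw (P.σ i) k).app (P.G F d)).app ⊤ x = 0 → P.Killed F i k d x := by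
  intro k
  induction k with
  | zero => exact fun x h => h
  | succ k ih =>
    intro d x h
    refine ih _ ?_
    obtain ⟨ψ, hψ⟩ := exists_itw_mulSec P.inv (P.σ i) (P.G F d) k
    have e : mulSec (P.σ i) (P.G F d) ≫ (pw (P.σ i) k).app ((tw P.L).obj (P.G F d)) =
        ((pw (P.σ i) (k + 1)).app (P.G F d)) ≫ ψ.inv :=
      ((pw (P.σ i) k).naturality (mulSec (P.σ i) (P.G F d))).trans
        ((congrArg ((pw (P.σ i) k).app (P.G F d) ≫ ·) ((Iso.eq_comp_inv ψ).2 hψ)).trans
          (Category.assoc _ _ _).symm)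
    refine (congr(($e).app ⊤ x) : _).trans ?_
    exact (congrArg (ψ.inv.app ⊤) h).trans (map_zero _)

theorem exists_killed_of_gamG [CompactSpace X] (hF : Coh.IsQCoh F) (i : Fin r) (d : ℕ) (x : Γ(P.G F d, ⊤))
    (hx : P.gamG R F i d x = 0) : ∃ k, P.Killed F i k d x := by
  have h0 : AModX.res (P.G F d) (le_top : P.U i ≤ ⊤) x = 0 := by
    rw [← P.pwE_gamG R, hx, map_zero]
  obtain ⟨n, hn⟩ := AmpleVan.exists_killed (P.isQCoh_G hF d) P.inv (P.s i) _ h0
  exact ⟨n, P.killed_of_pw F i n x hn⟩

variable (g : P.GenZero R F)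

/-- The graded module. -/
def sys : Sys R r where
  E d := Γ(P.G F d, ⊤)
  mu i d := appR R (P.m F i d) ⊤
  comm i j d := LinearMap.ext fun x => (congr(($(P.m_comm F i j d)).app ⊤ x) : _)
  fin := g.fin
  gen := g.gen

/-- The underlying global section of an element of a piece. -/
def valR (d : ℕ) : (P.sys R F g).E d →ₗ[R] Γ(P.G F d, ⊤) := LinearMap.id

theorem valR_mu (i : Fin r) (d : ℕ) (x : (P.sys R F g).E d) :
    P.valR R F g (d + 1) ((P.sys R F g).mu i d x) = (P.m F i d).app ⊤ (P.valR R F g d x) := rfl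

/-- The value of an element on a standard open. -/
def gam (i : Fin r) (d : ℕ) :
    (P.sys R F g).E d →ₗ[R] Γ(F, P.U i) :=
  (P.gamG R F i d).comp (P.valR R F g d)

theorem pwE_gam (i : Fin r) (d : ℕ) (x : (P.sys R F g).E d) :
    P.pwE R F i d (P.gam R F g i d x) = AModX.res (P.G F d) (le_top : P.U i ≤ ⊤) (P.valR R F g d x) :=
  P.pwE_gamG R F i d _

theorem gam_step (i : Fin r) (d : ℕ) (x : (P.sys R F g).E d) :
    P.gam R F g i (d + 1) ((P.sys R F g).mu i d x) = P.gam R F g i d x :=
  P.gamG_step R F i d _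

theorem killedIn_of_killed (i : Fin r) : ∀ (k : ℕ) {d : ℕ} (x : (P.sys R F g).E d),
    P.Killed F i k d (P.valR R F g d x) → (P.sys R F g).KilledIn i k d x
  | 0, _, _, h => h
  | k + 1, d, x, h => killedIn_of_killed i k ((P.sys R F g).mu i d x) h

/-- The values on the standard opens. -/
def col [CompactSpace X] [QuasiSeparatedSpace X] (hF : Coh.IsQCoh F) : Col (P.sys R F g) where
  C i := Γ(F, P.U i)
  γ := P.gam R F g
  step i d := LinearMap.ext fun x => P.gam_step R F g i d x
  surj i c := by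
    obtain ⟨n, T, hT⟩ := AmpleVan.exists_extend hF P.inv (P.s i) c
    refine ⟨n, T, (P.pwE R F i n).injective ?_⟩
    rw [P.pwE_gam, P.pwE_apply]
    exact hT
  kill i d x hx := by
    obtain ⟨n, hn⟩ := P.exists_killed_of_gamG R F hF i d (P.valR R F g d x) hx
    exact ⟨n, P.killedIn_of_killed R F g i n x hn⟩

end Pol

end Groth.Agent.FlatG
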