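import Groth.Agent.FlatG.Sys
import Groth.Agent.FlatStrat.Alg
import Groth.Agent.W4Lib.Flat
import Mathlib.RingTheory.Spectrum.Prime.FreeLocus
import Mathlib.RingTheory.Spectrum.Prime.RingHom
import Mathlib.RingTheory.LocalProperties.Projective

/-!
# Uniform bounds for the fibres of a graded module
-/

set_option autoImplicit false
set_option linter.style.haveILetI false

universe u

open TensorProduct DirectSum

namespace Groth.Agent.FlatG

variable {R : Type u} [CommRing R] {r : ℕ}

/-- Injectivity after base change passes along a tower of algebras. -/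
theorem injective_baseChange_tower {A K : Type u} [CommRing A] [CommRing K] [Algebra R A] [Algebra R K] [Algebra A K]
    [IsScalarTower R A K] {M N : Type u} [AddCommGroup M] [Module R M] [AddCommGroup N] [Module R N] (f : M →ₗ[R] N)
    (h : Function.Injective ((f.baseChange A).lTensor K)) : Function.Injective (f.baseChange K) := by
  let eM := AlgebraTensorModule.cancelBaseChange R A K K M
  let eN := AlgebraTensorModule.cancelBaseChange R A K K N
  have hcomm : ∀ z, eN ((f.baseChange A).lTensor K z) = f.baseChange K (eM z) := fun z => by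
    induction z using TensorProduct.induction_on with
    | zero => simp only [map_zero]
    | add a c ha hc => simp only [map_add, ha, hc]
    | tmul a w =>
      induction w using TensorProduct.induction_on with
      | zero => simp only [TensorProduct.tmul_zero, map_zero]
      | add w w' hw hw' => simp only [TensorProduct.tmul_add, map_add, hw, hw']
      | tmul b m => simp [eM, eN]
  intro x y hxy
  obtain ⟨x, rfl⟩ := eM.surjective x
  obtain ⟨y, rfl⟩ := eM.surjective y
  rw [← hcomm, ← hcomm] at hxy
  exact congrArg eM (h (eN.injective hxy))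

namespace Sys

variable (S : Sys R r)

/-- The dimension of a piece of the fibre at a prime. -/
noncomputable def hdim (q : PrimeSpectrum R) (d : ℕ) : ℕ :=
  Module.finrank q.asIdeal.ResidueField (q.asIdeal.ResidueField ⊗[R] S.E d)

theorem piRight_psi (A : Type u) [CommRing A] [Algebra R A] (d : ℕ) (x : A ⊗[R] S.E d) :
    TensorProduct.piRight R A A (fun _ : Fin r => S.E (d + 1)) ((S.psi d).baseChange A x) = (S.bc A).psi d x := by
  induction x using TensorProduct.induction_on with
  | zero => rw [map_zero, map_zero]; exact (map_zero ((S.bc A).psi d)).symm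
  | tmul a m => simp [psi, bc, TensorProduct.piRight_apply, TensorProduct.piRightHom_tmul]; rfl
  | add a b ha hb => rw [map_add, map_add, ha, hb]; exact (map_add ((S.bc A).psi d) a b).symm

theorem injective_psi_bc_iff (A : Type u) [CommRing A] [Algebra R A] (d : ℕ) :
    Function.Injective ((S.bc A).psi d) ↔ Function.Injective ((S.psi d).baseChange A) := by
  rw [← (TensorProduct.piRight R A A (fun _ : Fin r => S.E (d + 1))).injective.of_comp_iff]
  exact Iff.of_eq (congrArg Function.Injective (funext fun x => (S.piRight_psi A d x).symm))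

/-- The map to all the multiples, on the total module. -/
noncomputable def Psi : S.M →ₗ[MvPolynomial (Fin r) R] (Fin r → S.M) :=
  LinearMap.pi fun i => DistribSMul.toLinearMap (MvPolynomial (Fin r) R) S.M (MvPolynomial.X i : MvPolynomial (Fin r) R)

/-- The cokernel of `Psi`. -/
abbrev Coker : Type u := (Fin r → S.M) ⧸ LinearMap.range S.Psi

/-- The pieces of the cokernel are retracts. -/
theorem flat_coker_piece {A : Type u} [CommRing A] [Algebra R A] [Module.Flat A (A ⊗[R] S.Coker)] (d : ℕ) :
    Module.Flat A (A ⊗[R] ((Fin r → S.E (d + 1)) ⧸ LinearMap.range (S.psi d))) := by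
  let ι : (Fin r → S.E (d + 1)) →ₗ[R] (Fin r → S.M) := LinearMap.pi fun i => (S.inc (d + 1)).comp (LinearMap.proj i)
  let π : (Fin r → S.M) →ₗ[R] (Fin r → S.E (d + 1)) := LinearMap.pi fun i => (S.prj (d + 1)).comp (LinearMap.proj i)
  let R1 := LinearMap.range (S.psi d)
  let R2 := (LinearMap.range S.Psi).restrictScalars R
  have h1 : R1 ≤ R2.comap ι := by
    rintro _ ⟨x, rfl⟩
    refine ⟨S.inc d x, funext fun i => ?_⟩
    show (MvPolynomial.X i : MvPolynomial (Fin r) R) • S.inc d x = S.inc (d + 1) (S.mu i d x)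
    rw [X_smul, phi_inc]
  have h2 : R2 ≤ R1.comap π := by
    rintro _ ⟨x, rfl⟩
    refine ⟨S.prj d x, funext fun i => ?_⟩
    show S.mu i d (S.prj d x) = S.prj (d + 1) ((MvPolynomial.X i : MvPolynomial (Fin r) R) • x)
    rw [X_smul, prj_phi]
  let f := Submodule.mapQ R1 R2 ι h1
  let g := Submodule.mapQ R2 R1 π h2
  have hgf : g.comp f = LinearMap.id := by
    refine Submodule.linearMap_qext _ (LinearMap.ext fun v => ?_)
    show Submodule.Quotient.mk (π (ι v)) = Submodule.Quotient.mk v
    exact congrArg _ (funext fun i => S.prj_inc _ _)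
  haveI : Module.Flat A (A ⊗[R] ((Fin r → S.M) ⧸ R2)) :=
    Module.Flat.of_linearEquiv
      ((Submodule.Quotient.restrictScalarsEquiv R (LinearMap.range S.Psi)).baseChange R A _ _)
  exact Module.Flat.of_retract (f.baseChange A) (g.baseChange A)
    (by rw [← LinearMap.baseChange_comp, hgf, LinearMap.baseChange_id])

theorem flat_piece {A : Type u} [CommRing A] [Algebra R A] [Module.Flat A (A ⊗[R] S.M)] (d : ℕ) :
    Module.Flat A (A ⊗[R] S.E d) :=
  Module.Flat.of_retract ((S.inc d).baseChange A) ((S.prj d).baseChange A)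
    (by rw [← LinearMap.baseChange_comp, show (S.prj d).comp (S.inc d) = LinearMap.id from LinearMap.ext (S.prj_inc d),
      LinearMap.baseChange_id])

/-- On a piece where everything is flat, the variables are jointly injective in high degrees after any base change. -/
theorem exists_injective_of_flat {A : Type u} [CommRing A] [IsNoetherianRing A] [Algebra R A]
    [Module.Flat A (A ⊗[R] S.Coker)] :
    ∃ N₀, ∀ (K : Type u) [CommRing K] [Algebra R K] [Algebra A K] [IsScalarTower R A K] (d : ℕ), N₀ ≤ d →
      Function.Injective ((S.bc K).psi d) := by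
  obtain ⟨N₀, hN₀⟩ := (S.bc A).exists_psi_injective
  refine ⟨N₀, fun K _ _ _ _ d hd => ?_⟩
  rw [injective_psi_bc_iff]
  refine injective_baseChange_tower (A := A) (S.psi d) ?_
  haveI := S.flat_coker_piece (A := A) d
  let q := (LinearMap.range (S.psi d)).mkQ
  refine W4Lib.lTensor_injective_of_flat_quotient (g := q.baseChange A)
    ((S.injective_psi_bc_iff A d).1 (hN₀ d hd)) ?_ ?_ K
  · exact lTensor_exact A (LinearMap.exact_map_mkQ_range _) (Submodule.mkQ_surjective _)
  · exact LinearMap.lTensor_surjective A (Submodule.mkQ_surjective _)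

theorem hdim_comap {A : Type u} [CommRing A] [Algebra R A] (P : PrimeSpectrum A) (d : ℕ) :
    Module.finrank P.asIdeal.ResidueField (P.asIdeal.ResidueField ⊗[A] (A ⊗[R] S.E d)) =
      S.hdim (P.comap (algebraMap R A)) d := by
  let q := P.comap (algebraMap R A)
  letI : Algebra q.asIdeal.ResidueField P.asIdeal.ResidueField :=
    (Ideal.ResidueField.map q.asIdeal P.asIdeal (algebraMap R A) rfl).toAlgebra
  haveI : IsScalarTower R q.asIdeal.ResidueField P.asIdeal.ResidueField :=
    IsScalarTower.of_algebraMap_eq fun x => by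
      rw [RingHom.algebraMap_toAlgebra, Ideal.ResidueField.map_algebraMap, IsScalarTower.algebraMap_apply R A]
  rw [(AlgebraTensorModule.cancelBaseChange R A P.asIdeal.ResidueField P.asIdeal.ResidueField (S.E d)).finrank_eq,
    ← (AlgebraTensorModule.cancelBaseChange R q.asIdeal.ResidueField P.asIdeal.ResidueField
      P.asIdeal.ResidueField (S.E d)).finrank_eq, Module.finrank_baseChange]
  rfl

/-- Uniform bound and finitely many fibre dimension functions. -/
theorem exists_bound_of_noetherian [IsNoetherianRing R] :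
    ∃ (N : ℕ) (Q : Finset (PrimeSpectrum R)),
      (∀ (q : PrimeSpectrum R), ∀ d, N ≤ d → Function.Injective ((S.bc q.asIdeal.ResidueField).psi d)) ∧
      ∀ q : PrimeSpectrum R, ∃ q₀ ∈ Q, ∀ d, S.hdim q d = S.hdim q₀ d := by
  classical
  let P : Bool → Ideal R → R → Prop := fun b p f => if b then FlatStrat.Triv R S.M p f else FlatStrat.Triv R S.Coker p f
  obtain ⟨L, hL, hcov⟩ := FlatStrat.exists_common_cover (Finset.univ : Finset Bool) P
    (fun b p f p' f' h => by cases b <;> simp only [P, Bool.false_eq_true, ↓reduceIte] at h ⊢ <;> exact h.mono)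
    (fun b _ => by
      cases b
      · haveI : Module.FinitePresentation (MvPolynomial (Fin r) R) S.Coker := Module.finitePresentation_of_finite _ _
        simpa [P] using FlatStrat.exists_triv_cover (R := R) (S := MvPolynomial (Fin r) R) S.Coker
      · haveI : Module.FinitePresentation (MvPolynomial (Fin r) R) S.M := Module.finitePresentation_of_finite _ _
        simpa [P] using FlatStrat.exists_triv_cover (R := R) (S := MvPolynomial (Fin r) R) S.M)
  let A0 : Ideal R × R → Type u := fun x => Localization.Away (Ideal.Quotient.mk x.1 x.2)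
  have hflat : ∀ x ∈ L, Module.Flat (A0 x) (A0 x ⊗[R] S.M) ∧ Module.Flat (A0 x) (A0 x ⊗[R] S.Coker) := by
    intro x hx
    have hp : ∀ y ∈ x.1, algebraMap R (A0 x) y = 0 := fun y hy => by
      rw [IsScalarTower.algebraMap_apply R (R ⧸ x.1) (A0 x), Ideal.Quotient.algebraMap_eq,
        Ideal.Quotient.eq_zero_iff_mem.2 hy, map_zero]
    have hu : IsUnit (algebraMap R (A0 x) x.2) := by
      rw [IsScalarTower.algebraMap_apply R (R ⧸ x.1) (A0 x), Ideal.Quotient.algebraMap_eq]
      exact IsLocalization.Away.algebraMap_isUnit _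
    exact ⟨(hL x hx).2 true (Finset.mem_univ _) (A0 x) hp hu, (hL x hx).2 false (Finset.mem_univ _) (A0 x) hp hu⟩
  have hN : ∀ x, ∃ N₀, x ∈ L → ∀ (K : Type u) [CommRing K] [Algebra R K] [Algebra (A0 x) K]
      [IsScalarTower R (A0 x) K] (d : ℕ), N₀ ≤ d → Function.Injective ((S.bc K).psi d) := by
    intro x
    by_cases hx : x ∈ L
    · haveI := (hflat x hx).2
      obtain ⟨N₀, h⟩ := S.exists_injective_of_flat (A := A0 x)
      exact ⟨N₀, fun _ => h⟩
    · exact ⟨0, fun h => absurd h hx⟩
  choose N₀ hN₀ using hN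
  have hmin : ∀ x, (minimalPrimes (A0 x)).Finite := fun x => minimalPrimes.finite_of_isNoetherianRing _
  let Q : Finset (PrimeSpectrum R) := L.biUnion fun x => (hmin x).toFinset.attach.image
    fun P => PrimeSpectrum.comap (algebraMap R (A0 x)) ⟨P.1, ((hmin x).mem_toFinset.1 P.2).1.1⟩
  have key : ∀ q : PrimeSpectrum R, ∃ x ∈ L, ∃ P : PrimeSpectrum (A0 x), P.comap (algebraMap R (A0 x)) = q := by
    intro q
    obtain ⟨x, hx, hp, hf⟩ := hcov q.asIdeal q.isPrime
    refine ⟨x, hx, ?_⟩
    let q₁ : Ideal (R ⧸ x.1) := q.asIdeal.map (Ideal.Quotient.mk x.1)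
    haveI : q₁.IsPrime := Ideal.map_isPrime_of_surjective Ideal.Quotient.mk_surjective (by rwa [Ideal.mk_ker])
    have hq₁ : q₁.comap (Ideal.Quotient.mk x.1) = q.asIdeal := by
      rw [Ideal.comap_map_of_surjective _ Ideal.Quotient.mk_surjective, ← RingHom.ker_eq_comap_bot,
        Ideal.mk_ker, sup_eq_left.2 hp]
    have hdis : Disjoint (Submonoid.powers (Ideal.Quotient.mk x.1 x.2) : Set (R ⧸ x.1)) q₁ := by
      rw [Ideal.disjoint_powers_iff_notMem _ (Ideal.IsPrime.isRadical ‹_›)]
      exact fun h => hf (hq₁.le h)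
    refine ⟨⟨q₁.map (algebraMap _ (A0 x)),
      IsLocalization.isPrime_of_isPrime_disjoint (Submonoid.powers (Ideal.Quotient.mk x.1 x.2)) (A0 x) q₁ ‹_› hdis⟩, ?_⟩
    refine PrimeSpectrum.ext ?_
    show (q₁.map (algebraMap _ (A0 x))).comap (algebraMap R (A0 x)) = q.asIdeal
    rw [IsScalarTower.algebraMap_eq R (R ⧸ x.1) (A0 x), ← Ideal.comap_comap]
    rw [show (q₁.map (algebraMap _ (A0 x))).comap (algebraMap (R ⧸ x.1) (A0 x)) = q₁ from
      IsLocalization.under_map_of_isPrime_disjoint
        (Submonoid.powers (Ideal.Quotient.mk x.1 x.2)) (A0 x) ‹_› hdis]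
    exact hq₁
  refine ⟨L.sup N₀, Q, fun q d hd => ?_, fun q => ?_⟩
  · obtain ⟨x, hx, P, rfl⟩ := key q
    have e : algebraMap R (A0 x) = (algebraMap (R ⧸ x.1) (A0 x)).comp (Ideal.Quotient.mk x.1) :=
      IsScalarTower.algebraMap_eq R (R ⧸ x.1) (A0 x)
    let K := (P.comap (algebraMap R (A0 x))).asIdeal.ResidueField
    have hp : ∀ y ∈ x.1, algebraMap R K y = 0 := fun y hy => Ideal.algebraMap_residueField_eq_zero.2 (by
      show algebraMap R (A0 x) y ∈ P.asIdeal
      rw [e, RingHom.comp_apply, Ideal.Quotient.eq_zero_iff_mem.2 hy, map_zero]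
      exact zero_mem _)
    let g : R ⧸ x.1 →+* K := Ideal.Quotient.lift x.1 (algebraMap R K) hp
    have hu : IsUnit (g (Ideal.Quotient.mk x.1 x.2)) := by
      refine isUnit_iff_ne_zero.2 fun h => P.isPrime.ne_top (Ideal.eq_top_of_isUnit_mem _ ?_
        (IsLocalization.Away.algebraMap_isUnit (S := A0 x) (Ideal.Quotient.mk x.1 x.2)))
      have h' : x.2 ∈ (P.comap (algebraMap R (A0 x))).asIdeal := Ideal.algebraMap_residueField_eq_zero.1 h
      exact (congrArg (fun φ : R →+* A0 x => φ x.2 ∈ P.asIdeal) e).mp h'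
    let g' : A0 x →+* K := IsLocalization.Away.lift (Ideal.Quotient.mk x.1 x.2) hu
    letI : Algebra (A0 x) K := g'.toAlgebra
    haveI : IsScalarTower R (A0 x) K := IsScalarTower.of_algebraMap_eq fun y => by
      show algebraMap R K y = g' (algebraMap R (A0 x) y)
      exact (IsLocalization.Away.lift_eq (Ideal.Quotient.mk x.1 x.2) hu (Ideal.Quotient.mk x.1 y)).symm.trans
        (congrArg g' (RingHom.congr_fun e y).symm)
    exact hN₀ x hx _ d ((Finset.le_sup hx).trans hd)
  · obtain ⟨x, hx, P, rfl⟩ := key q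
    obtain ⟨P₀, hP₀, hle⟩ := Ideal.exists_minimalPrimes_le (I := (⊥ : Ideal (A0 x))) (J := P.asIdeal) bot_le
    haveI : P₀.IsPrime := hP₀.1.1
    have hmem : P₀ ∈ (hmin x).toFinset := (hmin x).mem_toFinset.2 hP₀
    refine ⟨PrimeSpectrum.comap (algebraMap R (A0 x)) ⟨P₀, ‹_›⟩,
      Finset.mem_biUnion.2 ⟨x, hx, Finset.mem_image.2 ⟨⟨P₀, hmem⟩, Finset.mem_attach _ _, rfl⟩⟩, fun d => ?_⟩
    haveI := (hflat x hx).1
    haveI := S.flat_piece (A := A0 x) d
    haveI := S.finite_E d
    rw [← S.hdim_comap P d, ← S.hdim_comap ⟨P₀, ‹_›⟩ d]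
    refine Eq.trans (Eq.symm ?_) (((congrFun rfl _).trans
      ((Module.rankAtStalk_eq_of_le_of_finite_of_flat (A0 x ⊗[R] S.E d) (p := ⟨P₀, ‹_›⟩) (q := P) hle).symm)).trans ?_)
    · exact Module.rankAtStalk_eq P
    · exact Module.rankAtStalk_eq _

end Sys

namespace Col

variable {S : Sys R r} (c : Col S)

/-- The map to all the standard opens. -/
noncomputable def Gam (d : ℕ) : S.E d →ₗ[R] (∀ i, c.C i) := LinearMap.pi fun i => c.γ i d

theorem piRight_Gam (A : Type u) [CommRing A] [Algebra R A] (d : ℕ) (x : A ⊗[R] S.E d) (i : Fin r) :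
    TensorProduct.piRight R A A c.C ((c.Gam d).baseChange A x) i = (c.γ i d).baseChange A x := by
  induction x using TensorProduct.induction_on with
  | zero => simp
  | tmul a m => simp [Gam, TensorProduct.piRight_apply, TensorProduct.piRightHom_tmul]
  | add a b ha hb => rw [map_add, map_add, map_add, Pi.add_apply, ha, hb]

theorem injective_Gam {A : Type u} [CommRing A] [Algebra R A] {N : ℕ}
    (hA : ∀ d, N ≤ d → Function.Injective ((S.bc A).psi d)) {d : ℕ} (hd : N ≤ d) :
    Function.Injective ((c.Gam d).baseChange A) := by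
  rw [injective_iff_map_eq_zero]
  intro x hx
  have hk : ∀ i, ∃ k, (S.bc A).KilledIn i k d x := fun i => c.kill_bc A i d x (by
    rw [← c.piRight_Gam, hx, map_zero]; rfl)
  choose k hk using hk
  exact (S.bc A).eq_zero_of_killedIn hA _ k le_rfl d hd x hk

end Col

end Groth.Agent.FlatG
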